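import Cfsg.Agent.H884.ElRows_m3
import Cfsg.Agent.H813.SaxSpK
import Cfsg.Agent.H938.Sax.Base
import Cfsg.Agent.S0245
import Cfsg.Agent.S0246
import Cfsg.Agent.Prune
set_option linter.all false
prune_inst 0x7f00000000000000000000000000000000000000000000000000000000000000000000000000000000000000000000000000000000000000000000000000000000000000000000000000000000000000003fffffffffffffffffffffffffffbeffbdffffffff
open scoped Cfsg.Agent.FastGrp

-- part: H901/SaxLin
section
/-!
# Fields commuting with isometries of a bilinear form (helper901, for S2498 and S2528)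
-/

set_option autoImplicit false
set_option linter.unusedSectionVars false

namespace Cfsg.Agent.H901.SaxSp

open Module Cfsg Cfsg.Geo Cfsg.Agent.H884.El
open Cfsg.Agent.H951 (fx cm Inv)
open scoped MatrixGroups Matrix

universe u v

section Abs

variable {F : Type u} [Field F] [Fintype F] {V : Type v} [AddCommGroup V] [Module F V] [FiniteDimensional F V]
  {x : Module.End F V} {r e : ℕ}

theorem dvd_of_inv (hrr : (r : F) ≠ 0) (hxr : x ^ r = 1) (hr : PP (Nat.card F) e r) {W : Submodule F V}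
    (hW : _root_.Cfsg.Agent.H951.Inv x W) : e ∣ finrank F ↥(W ⊓ cm x) := by
  have := Fact.mk hr.prime
  rw [← ord_eq hr]
  exact H951.ord_dvd_finrank hxr (hW.inf H951.inv_cm) (H951.inf_fx_of_le_cm hrr hxr inf_le_right)

/-- a quadratic field does not commute with an isometry `x` of order `r` (`r` a primitive prime divisor of
`q ^ e - 1`, `e ≥ 3` odd) of a nondegenerate bilinear form in dimension less than `4 e`. -/
theorem no_quadratic_bilin (B : LinearMap.BilinForm F V) (hB : ∀ v, (∀ u, B v u = 0) → v = 0)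
    (hBx : ∀ u v, B (x u) (x v) = B u v) (hr : PP (Nat.card F) e r) (he : Odd e) (he3 : 3 ≤ e)
    (hxr : x ^ r = 1) (hx1 : x ≠ 1) (hn : finrank F V < 4 * e) {J : Module.End F V}
    (hJx : ∀ v, J (x v) = x (J v)) (heven : ∀ W : Submodule F V, (∀ w ∈ W, J w ∈ W) → Even (finrank F W)) :
    False := by
  have hprime := Fact.mk hr.prime
  have hfin : Finite V := Module.finite_of_finite F
  have hrr : (r : F) ≠ 0 := hr.ne0 (by omega)
  have hr2 : r ≠ 2 := by have := hr.lt (by omega); omega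
  -- the commutator space
  have hcmJ : ∀ w ∈ cm x, J w ∈ cm x := by
    intro w hw
    obtain ⟨y, hy⟩ := H951.mem_cm.1 hw
    exact H951.mem_cm.2 ⟨J y, by rw [← hJx, ← map_sub, hy]⟩
  have hcmev := heven _ hcmJ
  have hcmd : e ∣ finrank F (cm x) := by
    have := dvd_of_inv hrr hxr hr (W := ⊤) H951.inv_top
    rwa [top_inf_eq] at this
  have hcm0 : finrank F (cm x) ≠ 0 := fun h0 => cm_ne_bot hx1 (Submodule.finrank_eq_zero.1 h0)
  have hcmle : finrank F (cm x) ≤ finrank F V := Submodule.finrank_le _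
  have hcm : finrank F (cm x) = 2 * e := by
    obtain ⟨A, hA⟩ := hcmd
    have hA4 : A < 4 := by
      by_contra hcon
      push Not at hcon
      have := Nat.mul_le_mul_left e hcon
      omega
    have hA0 : A ≠ 0 := by rintro rfl; omega
    have hAe : Even A := by
      rw [hA, Nat.even_mul] at hcmev
      exact hcmev.resolve_left (Nat.not_even_iff_odd.2 he)
    have hA2 : A = 2 := by
      obtain ⟨c, hc⟩ := hAe
      omega
    rw [hA, hA2, mul_comm]
  -- an irreducible subspace `W` of the commutator space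
  obtain ⟨W, hWcm, hWirr⟩ := H951.exists_irr (x := x) H951.inv_cm (cm_ne_bot hx1)
  have hWe : finrank F W = e := by rw [hWirr.finrank_eq hrr hxr hWcm, ord_eq hr]
  obtain ⟨hWd, hW, hirr⟩ := hWirr
  have hWo : Odd (finrank F W) := by rw [hWe]; exact he
  -- an invariant bilinear form vanishes on `W`
  have hodd : ∀ c : LinearMap.BilinForm F V,
      (∀ u v, c (x u) (x v) = c u v) → ∀ u ∈ W, ∀ v ∈ W, c u v = 0 := by
    intro c hinv
    let N : Submodule F V :=
      { carrier := {v | v ∈ W ∧ ∀ u ∈ W, c u v = 0}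
        add_mem' := fun {a b} ha hb => ⟨W.add_mem ha.1 hb.1, fun u hu => by
          rw [map_add, ha.2 u hu, hb.2 u hu, add_zero]⟩
        zero_mem' := ⟨W.zero_mem, fun u _ => map_zero _⟩
        smul_mem' := fun a v hv => ⟨W.smul_mem a hv.1, fun u hu => by
          rw [map_smul, hv.2 u hu, smul_zero]⟩ }
    have hNW : N ≤ W := fun v hv => hv.1
    have hNi : _root_.Cfsg.Agent.H951.Inv x N := by
      rintro v ⟨hv, hv2⟩
      refine ⟨hW v hv, fun u hu => ?_⟩
      obtain ⟨u', hu', rfl⟩ : ∃ u' ∈ W, x u' = u := by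
        refine ⟨(x ^ (r - 1)) u, hW.pow _ u hu, ?_⟩
        rw [← Module.End.mul_apply, ← pow_succ', Nat.sub_add_cancel hr.prime.one_le, hxr]
        rfl
      rw [hinv]
      exact hv2 u' hu'
    rcases hirr N hNW hNi with hN | hN
    · exfalso
      have hev := H200.LinFix.even_of_irr (l := r) hr2 hrr (y := x) hxr (W := W) hWcm hW
        (fun s hs hi => hirr s hs hi) hWd c (fun u _ v _ => hinv u v) (fun v hv hv2 => by
          have : v ∈ N := ⟨hv, hv2⟩
          rw [hN] at this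
          exact (Submodule.mem_bot F).1 this)
      exact (Nat.not_even_iff_odd.2 hWo) hev
    · intro u hu v hv
      rw [← hN] at hv
      exact hv.2 u hu
  have hJW : ¬ ∀ w ∈ W, J w ∈ W := fun h => (Nat.not_even_iff_odd.2 hWo) (heven W h)
  -- `cm x = W + J W`
  have hJWi : _root_.Cfsg.Agent.H951.Inv x (W.map J) := by
    rintro _ ⟨w, hw, rfl⟩
    exact ⟨x w, hW w hw, hJx w⟩
  have hJWcm : W.map J ≤ cm x := by
    rintro _ ⟨w, hw, rfl⟩
    exact hcmJ w (hWcm hw)
  have hsum : W ⊔ W.map J = cm x := by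
    apply Submodule.eq_of_le_of_finrank_eq (sup_le hWcm hJWcm)
    have h1 : e ∣ finrank F ↥(W ⊔ W.map J) := by
      have h2 : _root_.Cfsg.Agent.H951.Inv x (W ⊔ W.map J) := H951.Inv.sup hW hJWi
      have := dvd_of_inv hrr hxr hr h2
      rwa [inf_eq_left.2 (sup_le hWcm hJWcm)] at this
    have h2 : finrank F ↥(W ⊔ W.map J) ≤ 2 * e := by
      rw [← hcm]; exact Submodule.finrank_mono (sup_le hWcm hJWcm)
    have h3 : finrank F W < finrank F ↥(W ⊔ W.map J) := by
      apply Submodule.finrank_lt_finrank_of_lt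
      refine lt_of_le_of_ne le_sup_left fun h => hJW fun w hw => ?_
      rw [h]
      exact Submodule.mem_sup_right ⟨w, hw, rfl⟩
    rw [hcm]
    obtain ⟨A, hA⟩ := h1
    have hA3 : A < 3 := by
      by_contra hcon
      push Not at hcon
      have := Nat.mul_le_mul_left e hcon
      omega
    have hA2 : 1 < A := by
      by_contra hcon
      push Not at hcon
      have := Nat.mul_le_mul_left e hcon
      omega
    have : A = 2 := by omega
    rw [hA, this, mul_comm]
  -- the forms `B u v` and `B u (J v)` vanish on `W`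
  have h1 := hodd B hBx
  have h2 := hodd (LinearMap.BilinForm.comp B LinearMap.id J) (fun u v => by
    change B (x u) (J (x v)) = B u (J v)
    rw [hJx, hBx])
  -- `W ⊥ cm x` hence `W ⊥ V`
  obtain ⟨w, hw, hw0⟩ := Submodule.exists_mem_ne_zero_of_ne_bot hWd
  have h3 : ∀ z ∈ cm x, B w z = 0 := by
    intro z hz
    rw [← hsum] at hz
    obtain ⟨a, ha, _, ⟨b, hb, rfl⟩, rfl⟩ := Submodule.mem_sup.1 hz
    rw [map_add, h1 w hw a ha, zero_add]
    exact h2 w hw b hb
  have h4 : ∀ z ∈ fx x, ∀ y ∈ cm x, B y z = 0 := by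
    intro z hz y hy
    obtain ⟨y', rfl⟩ := H951.mem_cm.1 hy
    have h5 := hBx y' z
    rw [H951.mem_fx.1 hz] at h5
    rw [map_sub, LinearMap.sub_apply, h5, sub_self]
  apply hw0
  apply hB
  intro z
  have hz : z ∈ fx x ⊔ cm x := by
    rw [(H951.isCompl_fx_cm hrr hxr).sup_eq_top]
    trivial
  obtain ⟨a, ha, b, hb, rfl⟩ := Submodule.mem_sup.1 hz
  rw [map_add, h4 a ha w (hWcm hw), h3 b hb, add_zero]

end Abs

section Mat

open Cfsg.Agent.ClassicalGeometry.SympBasic

variable {F : Type u} [Field F] [Fintype F] {m : ℕ} {H : Subgroup (GL (Fin m ⊕ Fin m) F)} {r e : ℕ}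

/-- an element of prime order. -/
theorem exists_elt' {ι : Type} [Fintype ι] [DecidableEq ι] {H : Subgroup (GL ι F)} (hr : r.Prime)
    (hdvd : r ∣ Nat.card H) : ∃ g ∈ H, g ^ r = 1 ∧ g ≠ 1 := by
  have hfin : Finite (GL ι F) := inferInstance
  have := Fact.mk hr
  obtain ⟨g, hg⟩ := exists_prime_orderOf_dvd_card' r hdvd
  have hgr : (g : GL ι F) ^ r = 1 := by
    rw [← Subgroup.coe_pow, ← hg, pow_orderOf_eq_one]; rfl
  refine ⟨g, g.2, hgr, ?_⟩
  intro h1
  have hg2 : g = 1 := Subtype.ext h1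
  rw [hg2, orderOf_one] at hg
  exact hr.one_lt.ne hg

/-- **No quadratic field** is normalised by a subgroup of `Sp_2m(q)` whose order is divisible by a primitive prime
divisor of `q ^ e - 1`, `e` odd, `2 m < 4 e`. -/
theorem no_quadratic_field_sp (hm : 1 ≤ m) (hH : H ≤ spGL m F) (hr : PP (Nat.card F) e r)
    (he : Odd e) (he3 : 3 ≤ e) (hn : 2 * m < 4 * e) (hdvd : r ∣ Nat.card H)
    {K : Subalgebra F (Matrix (Fin m ⊕ Fin m) (Fin m ⊕ Fin m) F)} (hK : IsFieldSubalgebra 2 K)
    (hHK : H ≤ subalgebraNormalizer K) : False := by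
  obtain ⟨g, hgH, hgr, hg1⟩ := exists_elt' hr.prime hdvd
  have hne : Nonempty (Fin m ⊕ Fin m) := ⟨Sum.inl ⟨0, by omega⟩⟩
  have hr2 : r ≠ 2 := by have := hr.lt (by omega); omega
  have hcomm := comm_field Nat.prime_two hK (hHK hgH) hr.prime hr2 hgr
  obtain ⟨J, hJK, hJ, hgen⟩ := Cfsg.Agent.H884.HermGL.exists_gen hK
  refine no_quadratic_bilin (x := lin g) (r := r) (e := e) (sympBilin m F) ?_ ?_ hr he he3 ?_ (lin_ne_one hg1) ?_
    (J := Matrix.toLin' J) ?_ ?_
  · intro v hv
    apply eq_zero_of_forall_sympForm_left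
    intro u
    have h1 : sympForm m F v u = 0 := hv u
    rw [sympForm_swap, h1, neg_zero]
  · intro u v
    rw [lin, Matrix.toLin'_apply, Matrix.toLin'_apply]
    exact hH hgH u v
  · rw [← H251.GeoCard.toLin_pow, hgr]; exact lin_one
  · rw [Module.finrank_fintype_fun_eq_card, Cfsg.Agent.H931.card_sum_fin]; exact hn
  · intro v
    rw [lin, Matrix.toLin'_apply, Matrix.toLin'_apply, Matrix.toLin'_apply, Matrix.toLin'_apply,
      Matrix.mulVec_mulVec, Matrix.mulVec_mulVec, hcomm J hJK]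
  · intro W hW
    refine even_of_field hK fun k hk w hw => ?_
    obtain ⟨s, t, rfl⟩ := hgen k hk
    rw [Matrix.add_mulVec, Matrix.smul_mulVec, Matrix.smul_mulVec, Matrix.one_mulVec]
    refine W.add_mem (W.smul_mem _ hw) (W.smul_mem _ ?_)
    have := hW w hw
    rwa [Matrix.toLin'_apply] at this

omit [Fintype F] in
/-- the degree of a field subalgebra divides the dimension. -/
theorem dvd_of_field {ι : Type} [Fintype ι] [DecidableEq ι] [Nonempty ι] {s : ℕ} {K : Subalgebra F (Matrix ι ι F)}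
    (hK : IsFieldSubalgebra s K) : s ∣ Fintype.card ι := by
  let _ : Field K := (H912.isField_of_fieldSub hK).toField
  have h1 := Module.finrank_mul_finrank F K (ι → F)
  rw [hK.finrank_eq, Module.finrank_fintype_fun_eq_card] at h1
  exact ⟨_, h1.symm⟩

end Mat

end Cfsg.Agent.H901.SaxSp
end

-- part: H901/SaxSpRow
section
/-!
# Geometric classes of `Sp_2m(q)` and primitive prime divisors (helper901, for S2498 and S2528)

`geo_cases` : a subgroup of a member of a geometric class of `Sp_2m(q)` whose order is divisible by the primitive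
prime divisors for the exponents `2m`, `2m - 2` and the odd one of `m`, `m - 1` lies in `O^-_2m(q)` (`q`, `m` even)
or in `Sp_2(q²).2` (`m = 2`).
-/

set_option autoImplicit false
set_option linter.unusedSectionVars false

namespace Cfsg.Agent.H901.SaxSp

open Module Cfsg Cfsg.Geo Cfsg.Agent.H884.El Cfsg.Agent.H955 Cfsg.Agent.H954.TSing
open Cfsg.Agent.H262.El (pre pre_le pre_ne scalars_le_pre mem_pre spToGL_injective two_le_of_symp)
open Cfsg.Agent.ClassicalGeometry.SympBasic Cfsg.Agent.H876 Cfsg.Agent.H931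
open Cfsg.Agent.H951 (fx cm Inv)
open scoped MatrixGroups Matrix

universe u

variable {F : Type u} [Field F] [Fintype F] {m : ℕ} {H : Subgroup (GL (Fin m ⊕ Fin m) F)}

/-- `H` lies in `O^-_2m(q)`, `q` and `m` even. -/
def InOMinus (m : ℕ) (F : Type u) [Field F] [Fintype F] (H : Subgroup (GL (Fin m ⊕ Fin m) F)) : Prop :=
  Even m ∧ ¬ Odd (Fintype.card F) ∧ ∃ Q : QuadraticForm F (Fin m ⊕ Fin m → F),
    (∀ u v, QuadraticMap.polar Q u v = sympForm m F u v) ∧ ¬ IsPlus Q ∧ H ≤ Cfsg.isometryGroup F (⇑Q)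

/-- `H` lies in `Sp_2(q²).2 < Sp_4(q)`. -/
def InExt (m : ℕ) (F : Type u) [Field F] [Fintype F] (H : Subgroup (GL (Fin m ⊕ Fin m) F)) : Prop :=
  m = 2 ∧ ∃ K : Subalgebra F (Matrix (Fin m ⊕ Fin m) (Fin m ⊕ Fin m) F), IsFieldSubalgebra 2 K ∧
    IsSelfAdjointFor (sympForm m F) K ∧ (∀ k ∈ K, ∀ v, sympForm m F (k *ᵥ v) v = 0) ∧
    H ≤ subalgebraNormalizer K

theorem PP.od {q e r : ℕ} (h : PP q e r) (he : 1 ≤ e) : Cfsg.Agent.H262.El.Od q e r :=
  ⟨h.prime, h.ord, h.not_dvd he⟩

/-- isometries in `Sp_2m(q)`, `q` even. -/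
theorem le_isometryGroup (hm : 1 ≤ m) {Q : QuadraticForm F (Fin m ⊕ Fin m → F)}
    (hpol : ∀ u v, QuadraticMap.polar Q u v = sympForm m F u v) {Q0 : (Fin m ⊕ Fin m → F) → F} (hQ0 : ⇑Q = Q0) :
    quadSimilarityGroup Q0 ⊓ spGL m F ≤ Cfsg.isometryGroup F (⇑Q) := by
  subst hQ0
  rintro g ⟨⟨c, hc⟩, hg⟩
  have h1 : ∀ u v, (c : F) * sympForm m F u v = sympForm m F u v := by
    intro u v
    have h2 : sympForm m F ((g : Matrix _ _ F) *ᵥ u) ((g : Matrix _ _ F) *ᵥ v) = sympForm m F u v := hg u v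
    rw [← hpol, ← hpol] at h2
    rw [← hpol u v]
    have h3 : QuadraticMap.polar Q ((g : Matrix _ _ F) *ᵥ u) ((g : Matrix _ _ F) *ᵥ v) =
        c * QuadraticMap.polar Q u v := by
      simp only [QuadraticMap.polar, ← Matrix.mulVec_add, hc]
      ring
    rw [← h3, h2]
  have h4 := h1 (Pi.single (Sum.inr ⟨0, by omega⟩) 1) (Pi.single (Sum.inl ⟨0, by omega⟩) 1)
  rw [sympForm_single_inr_left, Pi.single_eq_same, mul_one] at h4
  rw [H925.mem_iso_iff]
  intro v
  rw [hc, h4, one_mul]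

variable (m) in
theorem finrank_sum : finrank F (Fin m ⊕ Fin m → F) = 2 * m := by
  rw [Module.finrank_fintype_fun_eq_card, Cfsg.Agent.H931.card_sum_fin]

/-- class 8 -/
theorem class_eight (hm : 2 ≤ m) (hodd : ¬ Odd (Fintype.card F)) {Q0 : (Fin m ⊕ Fin m → F) → F}
    (hQ : IsNondegenerateQuadraticForm Q0) (hpol : ∀ u v, QuadraticMap.polar Q0 u v = sympForm m F u v)
    {r₀ : ℕ} (hr₀ : PP (Nat.card F) (2 * m) r₀) (h0 : r₀ ∣ Nat.card H) (h3 : Hits H (oddE m))
    (hH : H ≤ quadSimilarityGroup Q0 ⊓ spGL m F) : InOMinus m F H := by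
  have hq := one_lt_q F
  obtain ⟨Q, hQ', hnd⟩ := Cfsg.Agent.H883.Bridge.exists_quadraticForm hQ
  subst hQ'
  have hHi := hH.trans (le_isometryGroup (by omega) hpol rfl)
  have hfin := finrank_sum (F := F) m
  obtain ⟨g, hgH, hiso, -, hg1⟩ := exists_elt hHi hr₀ (by omega) h0
  obtain ⟨hcm, hcmP⟩ := hiso.even_case hnd (lin_ne_one hg1) hr₀ (even_two_mul m) (by omega)
  have hcmt : cm (lin g) = ⊤ := Submodule.eq_top_of_finrank_eq (by rw [hcm, hfin])
  have hnP : ¬ IsPlus Q := by
    intro hP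
    apply hcmP
    rw [hcmt]
    obtain ⟨U, hU, hUd⟩ := hP
    refine ⟨U.comap (⊤ : Submodule F _).subtype, fun w hw => ?_, ?_⟩
    · rw [res_apply]
      exact hU _ hw
    · rw [finrank_top, ← hUd]
      congr 1
      exact ((Submodule.comapSubtypeEquivOfLe (p := U) (q := ⊤) le_top).finrank_eq)
  refine ⟨?_, hodd, Q, hpol, hnP, hHi⟩
  by_contra hme
  rw [Nat.not_even_iff_odd] at hme
  have hm3 : 3 ≤ m := by
    obtain ⟨k, hk⟩ := hme
    omega
  rw [oddE_of_odd hme] at h3
  obtain ⟨r₃, hr₃⟩ := exists_pp (q := Nat.card F) (e := m) (by omega) hm3 (by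
    rintro ⟨-, rfl⟩
    exact absurd hme (by decide))
  obtain ⟨z, hzH, hziso, -, hz1⟩ := exists_elt hHi hr₃ (by omega) (h3 _ hr₃)
  obtain ⟨hzcm, hzP, -⟩ := hziso.odd_case hnd (lin_ne_one hz1) hr₃ hme (by omega)
  have hzt : cm (lin z) = ⊤ := Submodule.eq_top_of_finrank_eq (by rw [hzcm, hfin])
  apply hcmP
  rw [hcmt, ← hzt]
  exact hzP

/-- **The geometric classes of `Sp_2m(q)`**, `(m, q) ≠ (2, 2), (3, 2)`; `q` even if `m = 2`. -/
theorem geo_cases (hm : 2 ≤ m) (hex : ¬ (m = 2 ∧ Fintype.card F = 2)) (h32 : ¬ (m = 3 ∧ Fintype.card F = 2))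
    (hm2 : m = 2 → ¬ Odd (Fintype.card F))
    {M : Subgroup (GL (Fin m ⊕ Fin m) F)} (hM : InSymplecticClass m F M) (hHM : H ≤ M)
    (h0 : Hits H (2 * m)) (h1 : Hits H (2 * m - 2)) (h3 : Hits H (oddE m)) :
    InOMinus m F H ∨ InExt m F H := by
  classical
  have hq := one_lt_q F
  have hc : Nat.card F = Fintype.card F := Nat.card_eq_fintype_card
  obtain ⟨p, a, hp, ha, hpa⟩ := exists_char F
  have hne : Nonempty (Fin m ⊕ Fin m) := ⟨Sum.inl ⟨0, by omega⟩⟩
  have hι : Fintype.card (Fin m ⊕ Fin m) = 2 * m := Cfsg.Agent.H931.card_sum_fin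
  -- the primes
  obtain ⟨r₀, hr₀⟩ : ∃ r, PP p (a * (2 * m)) r := by
    by_cases h2 : m = 2
    · subst h2
      apply exists_pp hp.two_le
      · have := Nat.mul_le_mul_right (2 * 2) ha; omega
      · rintro ⟨-, h6⟩
        omega
    · refine exists_ppp hp ha (by omega) ?_ (fun b hb => by
        have := Nat.mul_le_mul hb (show 6 ≤ 2 * m by omega); omega)
      rintro ⟨h4, h5⟩
      exact h32 ⟨by omega, by rw [← hc, hpa, h4]⟩
  have hr₀q : PP (Nat.card F) (2 * m) r₀ := by rw [hpa]; exact hr₀.of_pow ha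
  have h0r := h0 _ hr₀q
  have hlt := hr₀q.lt (by omega)
  have hH : H ≤ spGL m F := by
    refine hHM.trans ?_
    rcases hM with (hM | hM | hM | hM | hM | hM | hM) | hM | hM | hM | hM
    · obtain ⟨W, -, -, rfl⟩ := hM; exact inf_le_right
    · obtain ⟨W, -, -, -, rfl⟩ := hM; exact inf_le_right
    · obtain ⟨t, k, D, -, rfl⟩ := hM; exact inf_le_right
    · obtain ⟨D, -, -, -, rfl⟩ := hM; exact inf_le_right
    · obtain ⟨F₀, s, P, ζ, -, -, -, -, rfl⟩ := hM; exact inf_le_right
    · obtain ⟨R, p', k, -, -, -, -, -, -, -, -, -, rfl⟩ := hM; exact inf_le_right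
    · obtain ⟨Q, -, -, -, rfl⟩ := hM; exact inf_le_right
    · obtain ⟨s, K, -, -, -, -, rfl⟩ := hM; exact inf_le_right
    · obtain ⟨K, -, -, -, -, rfl⟩ := hM; exact inf_le_right
    · obtain ⟨n₁, n₂, e, P, f₁, f₂, -, -, -, -, -, rfl⟩ := hM; exact inf_le_right
    · obtain ⟨k, t, e, P, f₁, -, -, -, -, -, -, rfl⟩ := hM; exact inf_le_right
  -- quadratic fields
  have hquad : m ≠ 2 → ∀ K : Subalgebra F (Matrix (Fin m ⊕ Fin m) (Fin m ⊕ Fin m) F), IsFieldSubalgebra 2 K →
      H ≤ subalgebraNormalizer K → False := by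
    intro h2 K hK hHK
    have ho3 := oddE_odd (m := m) (by omega)
    have he33 : 3 ≤ oddE m ∧ 2 * m < 4 * oddE m := by
      rcases Nat.even_or_odd m with he | ho
      · rw [oddE_of_even he]
        obtain ⟨k, hk⟩ := he
        omega
      · rw [oddE_of_odd ho]
        obtain ⟨k, hk⟩ := ho
        omega
    obtain ⟨r₃, hr₃⟩ := exists_pp (q := Nat.card F) (e := oddE m) (by omega) he33.1 (by
      rintro ⟨-, h⟩
      rw [h] at ho3
      exact absurd ho3 (by decide))
    exact no_quadratic_field_sp (by omega) hH hr₃ ho3 he33.1 he33.2 (h3 _ hr₃) hK hHK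
  -- an irreducible element
  obtain ⟨y, hyH, hyr, hy1⟩ := exists_elt' hr₀q.prime h0r
  have hirr : ∀ W : Submodule F (Fin m ⊕ Fin m → F),
      (∀ v ∈ W, (y : Matrix (Fin m ⊕ Fin m) (Fin m ⊕ Fin m) F) *ᵥ v ∈ W) → W = ⊥ ∨ W = ⊤ :=
    Cfsg.Agent.H262.El.irr_of_od (by rw [hι, ← hc]; exact PP.od hr₀q (by omega)) hyr hy1
  -- decompositions
  have hdec : ∀ (t k : ℕ) (D : Fin t → Submodule F (Fin m ⊕ Fin m → F)), IsMDecomposition k D →
      y ∉ decompositionStabilizer D := by
    intro t k D hD hyD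
    have htk : t * k = 2 * m := by rw [Cfsg.Agent.H918.decomp_card hD, hι]
    have ht : t ≤ 2 * m := by
      rw [← htk]
      exact Nat.le_mul_of_pos_right t hD.pos
    have h1 := Cfsg.Agent.H262.El.fixes_of_decomposition hD hyD hr₀q.prime (by omega) hyr
      ⟨0, by have := hD.two_le; omega⟩
    rcases hirr _ h1 with h2 | h2
    · exact Cfsg.Agent.H918.decomp_ne_bot hD _ h2
    · have h3 := hD.finrank_eq ⟨0, by have := hD.two_le; omega⟩
      rw [h2, finrank_top, finrank_sum] at h3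
      have h4 := hD.two_le
      have h5 := hD.pos
      have h6 : 2 * k ≤ t * k := Nat.mul_le_mul_right k h4
      omega
  rcases hM with (hM | hM | hM | hM | hM | hM | hM) | hM | hM | hM | hM
  · exfalso
    obtain ⟨W, hW0, hW, rfl⟩ := hM
    exact Cfsg.Agent.H262.El.not_mem_subspaceStabilizer_of_irr hirr hW0
      (Cfsg.Agent.H262.El.totallySingular_ne_top (by omega) hW) (hHM hyH).1
  · exfalso
    obtain ⟨W, hW0, hW, hW2, rfl⟩ := hM
    refine Cfsg.Agent.H262.El.not_mem_subspaceStabilizer_of_irr hirr hW0 ?_ (hHM hyH).1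
    rintro rfl
    rw [finrank_top, finrank_sum] at hW2
    omega
  · exfalso
    obtain ⟨t, k, D, hD, rfl⟩ := hM
    exact hdec t k D hD.decomp (hHM hyH).1
  · exfalso
    obtain ⟨D, -, hD, -, rfl⟩ := hM
    exact hdec 2 m D hD (hHM hyH).1
  · exfalso
    obtain ⟨F₀, s, P, ζ, hs, hcard, -, -, rfl⟩ := hM
    exact kill_subfield (hHM.trans inf_le_left) hs (by rw [hc]; exact hcard) hp hpa hr₀ (by omega) (by omega) h0r
  · -- class 6
    exfalso
    obtain ⟨R, p', k, hR, habs, -, hp', hodd', hcard, hRc, hZ, -, rfl⟩ := hM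
    have hm3 : m ≠ 2 := by
      rintro rfl
      exact hm2 rfl (by rw [hcard]; exact hodd')
    have hsn := Cfsg.Agent.H921.card_eq_pow_of_center_prime hR habs hZ hRc
    rw [hι] at hsn
    have hme : Even m := even_of_pow (by omega) Nat.prime_two hsn
    have hm4 : 4 ≤ m := by
      obtain ⟨j, hj⟩ := hme
      omega
    have hq3 : Nat.card F ≠ 2 := by
      rw [hc, hcard]
      rintro rfl
      exact absurd hodd' (by decide)
    have hk1 : 1 ≤ k := by
      rcases Nat.eq_zero_or_pos k with rfl | h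
      · rw [pow_zero] at hsn; omega
      · exact h
    have key : ∀ d t, 2 ≤ d → PP (Nat.card F) d t → t ∣ Nat.card H → t ≤ 2 * m + 1 := by
      intro d t hd ht htH
      have := symp_le (hHM.trans inf_le_left) habs hR hk1 (by rw [hι]; exact hsn)
        (Or.inr (Or.inr ⟨rfl, hZ, hRc⟩)) ht hd htH
      rwa [hι] at this
    obtain ⟨r₁, hr₁⟩ := exists_pp (q := Nat.card F) (e := 2 * m - 2) (by omega) (by omega) (by omega)
    obtain ⟨r₃, hr₃⟩ := exists_pp (q := Nat.card F) (e := m - 1) (by omega) (by omega) (by omega)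
    have h6 := key _ _ (by omega) hr₁ (h1 _ hr₁)
    have h7 := key _ _ (by omega) hr₃ (h3 _ (by rw [oddE_of_even hme]; exact hr₃))
    exact false_of_even hm4 hme hr₁ hr₃ (by omega) (by omega)
  · -- class 8
    left
    obtain ⟨Q, hodd, hQ, hpol, rfl⟩ := hM
    exact class_eight hm hodd hQ hpol hr₀q h0r h3 hHM
  · -- extension fields
    obtain ⟨s, K, hs, hK, hsa, halt, rfl⟩ := hM
    have hHK := hHM.trans inf_le_left
    have hsn : s ∣ 2 * m := by rw [← hι]; exact dvd_of_field hK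
    by_cases hm3 : m = 2
    · right
      subst hm3
      have hs2 : s = 2 := by
        have : s ∣ 2 ^ 2 := hsn
        exact (Nat.prime_dvd_prime_iff_eq hs Nat.prime_two).1 (hs.dvd_of_dvd_pow this)
      subst hs2
      exact ⟨rfl, K, hK, hsa, halt, hHK⟩
    · exfalso
      have hs2 : s = 2 := by
        by_cases hexc : Nat.card F = 2 ∧ 2 * m - 2 = 6
        · have hm4 : m = 4 := by omega
          rw [hm4] at hsn
          have : s ∣ 2 ^ 3 := by norm_num; exact hsn
          exact (Nat.prime_dvd_prime_iff_eq hs Nat.prime_two).1 (hs.dvd_of_dvd_pow this)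
        · obtain ⟨r₁, hr₁⟩ := exists_pp (q := Nat.card F) (e := 2 * m - 2) (by omega) (by omega) hexc
          have h5 := ext_cases hs hK hHK (by rw [hι]; exact hsn) hr₁ (by omega) (h1 _ hr₁)
          exact eq_two (by (clear * - hm hm3; omega)) hs hsn (hr₁.lt (by omega)) h5
      subst hs2
      exact hquad hm3 K hK hHK
  · exfalso
    obtain ⟨K, hodd, hK, -, -, rfl⟩ := hM
    have hHK := hHM.trans inf_le_left
    exact hquad (fun h => hm2 h hodd) K hK hHK
  · exfalso
    obtain ⟨n₁, n₂, e, P, f₁, f₂, -, hn2, hf₁, -, -, rfl⟩ := hM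
    have h12 : n₁ * n₂ = Fintype.card (Fin m ⊕ Fin m) := by
      have h1 := Fintype.card_congr e
      rw [Fintype.card_prod, Fintype.card_fin, Fintype.card_fin] at h1
      exact h1.symm
    refine kill_tensor e P (hHM.trans inf_le_left) (two_le_of_symp hf₁ ?_) (by omega) h12 hr₀q (by omega) h0r
    rintro rfl
    rw [hι, zero_mul] at h12
    omega
  · exfalso
    obtain ⟨k, t, e, P, f₁, -, -, ht, -, hf₁, -, rfl⟩ := hM
    have hkt : k ^ t = 2 * m := by
      have h1 := Fintype.card_congr e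
      rw [hι, Fintype.card_fun, Fintype.card_fin, Fintype.card_fin] at h1
      exact h1.symm
    have hk2 : 2 ≤ k := two_le_of_symp hf₁ (by
      rintro rfl
      rw [zero_pow (by omega)] at hkt
      omega)
    have htm : t < 2 * m := by
      rw [← hkt]
      exact lt_of_lt_of_le Nat.lt_two_pow_self (Nat.pow_le_pow_left hk2 t)
    have hkm : k < 2 * m := by
      rw [← hkt]
      calc k = k ^ 1 := (pow_one k).symm
        _ < k ^ t := Nat.pow_lt_pow_right (by omega) (by omega)
    refine hy1 (Cfsg.Agent.H262.El.eq_one_of_mem_tensorWreathSubgroup (hHM hyH).1 hr₀q.prime hyr (by omega)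
      (by rw [← hc]; exact hr₀q.not_dvd (by omega)) ?_)
    intro j hj1 hj2
    rw [← hc, hr₀q.dvd_iff (by omega)]
    intro h
    have := Nat.le_of_dvd hj1 h
    omega

/-! ### `PSp_2m(q)` -/

open Cfsg.Agent.H938.Sax (PGap OrdGap)

theorem card_psp (hm : 1 ≤ m) : Nat.gcd 2 (Fintype.card F - 1) * Nat.card (PSp m F) =
    Fintype.card F ^ (m ^ 2) * ∏ i ∈ Finset.range m, (Fintype.card F ^ (2 * (i + 1)) - 1) := by
  have h1 := S0245.result (F := F) rfl m
  have h2 := S0246.result (F := F) rfl m hm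
  have h3 := Subgroup.card_mul_index (Subgroup.center ↥(Matrix.symplecticGroup (Fin m) F))
  rw [h1, h2] at h3
  exact h3

theorem dvd_card_psp {r e i : ℕ} (hr : PP (Nat.card F) e r) (hr2 : r ≠ 2) (hi : 1 ≤ i) (him : i ≤ m)
    (hd : e ∣ 2 * i) : r ∣ Nat.card (PSp m F) := by
  have h1 := card_psp (F := F) (m := m) (by omega)
  have h2 : r ∣ Nat.gcd 2 (Fintype.card F - 1) * Nat.card (PSp m F) := by
    rw [h1]
    apply Dvd.dvd.mul_left
    refine dvd_trans ?_ (Finset.dvd_prod_of_mem _ (Finset.mem_range.2 (by omega : i - 1 < m)))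
    rw [← Nat.card_eq_fintype_card, hr.dvd_iff (one_lt_q F).le]
    rwa [show 2 * (i - 1 + 1) = 2 * i by omega]
  rcases (Nat.Prime.dvd_mul hr.prime).1 h2 with h | h
  · exfalso
    exact hr2 ((Nat.prime_dvd_prime_iff_eq hr.prime Nat.prime_two).1 (h.trans (Nat.gcd_dvd_left _ _)))
  · exact h

theorem card_dvd_pre (R : Subgroup (PSp m F)) : Nat.card R ∣ Nat.card (pre R) := by
  have h1 : Nat.card (pre R) =
      Nat.card (R.comap (QuotientGroup.mk' (Subgroup.center (Matrix.symplecticGroup (Fin m) F)))) := by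
    unfold pre
    rw [Subgroup.card_map_of_injective spToGL_injective]
  rw [h1]
  have h2 : R = (R.comap (QuotientGroup.mk' (Subgroup.center (Matrix.symplecticGroup (Fin m) F)))).map
      (QuotientGroup.mk' (Subgroup.center (Matrix.symplecticGroup (Fin m) F))) :=
    (Subgroup.map_comap_eq_self_of_surjective (QuotientGroup.mk'_surjective _) R).symm
  conv_lhs => rw [h2]
  exact Subgroup.card_map_dvd _ _

/-- if no prime is missing, the primitive prime divisors are hit. -/
theorem hits_of {R : Subgroup (PSp m F)} (hR : ¬ PGap (PSp m F) R) {e i : ℕ} (hi : 1 ≤ i) (him : i ≤ m)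
    (hd : e ∣ 2 * i) (he : 2 ≤ e ∨ (1 ≤ e ∧ ¬ Odd (Fintype.card F))) : Hits (pre R) e := by
  intro r hr
  have hr2 : r ≠ 2 := by
    rintro rfl
    rcases he with he | ⟨he, hodd⟩
    · have := hr.lt (by omega); omega
    · have h1 := hr.not_dvd he
      rw [Nat.card_eq_fintype_card] at h1
      rw [Nat.not_odd_iff_even] at hodd
      exact h1 hodd.two_dvd
  have h1 := dvd_card_psp hr hr2 hi him hd
  have h2 : r ∣ Nat.card R := by
    by_contra h
    exact hR ⟨r, hr.prime, h1, h⟩
  exact h2.trans (card_dvd_pre R)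

/-- **Proper subgroups of `PSp_2m(q)`**: a prime is missing, or the residual class, or `O^-_2m(q)` (`q`, `m` even), or
`m = 2` and `PSp_2(q²).2`. -/
theorem psp_cases (hm : 2 ≤ m) (hex : ¬ (m = 2 ∧ Fintype.card F = 2)) (h32 : ¬ (m = 3 ∧ Fintype.card F = 2))
    (hm2 : m = 2 → ¬ Odd (Fintype.card F)) {R : Subgroup (PSp m F)} (hR : R ≠ ⊤) :
    PGap (PSp m F) R ∨ InSymplecticResidualClass (pre R) ∨ InOMinus m F (pre R) ∨ InExt m F (pre R) := by
  by_cases hP : PGap (PSp m F) R
  · exact Or.inl hP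
  right
  rcases Cfsg.Agent.S5662.result m hm hex (pre R) (pre_le R) (by
    rw [sup_eq_left.2 (scalars_le_pre R)]
    exact pre_ne hR) with ⟨M, hM, hle⟩ | h
  · right
    refine geo_cases hm hex h32 hm2 hM hle (hits_of hP (i := m) (by omega) le_rfl dvd_rfl (Or.inl (by omega)))
      (hits_of hP (i := m - 1) (by omega) (by omega) (by rw [show 2 * m - 2 = 2 * (m - 1) by omega])
        (Or.inl (by omega))) ?_
    have ho := oddE_odd (m := m) (by omega)
    have h1 : 1 ≤ oddE m := ho.pos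
    have h2 : oddE m ≤ m := by unfold oddE; split_ifs <;> omega
    refine hits_of hP (i := oddE m) h1 h2 (Dvd.intro_left _ rfl) ?_
    by_cases h : m = 2
    · exact Or.inr ⟨h1, hm2 h⟩
    · left
      rcases Nat.even_or_odd m with he | ho'
      · rw [oddE_of_even he]; omega
      · rw [oddE_of_odd ho']; omega
  · exact Or.inl h

end Cfsg.Agent.H901.SaxSp
end
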