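import Cfsg.Agent.H94.Sp.Base_m3
import Cfsg.Agent.H182.CentOrth
import Cfsg.Agent.Lib.Zsigmondy
import Mathlib
import Cfsg.Agent.H160.QFinal
import Cfsg.Agent.H104.QEnumB
import Cfsg.Agent.H229.T.Upper_m3
import Cfsg.Agent.FastGrp
import Cfsg.Agent.Prune
set_option linter.all false
prune_inst 0x7ffff9fcfbbff3ffffff7e7ff7b9efffbbb7dfffe6dff9437feaebff8fff139a8bedffaf0de0b0fe0ed6e21410b97853fb7eeeffe36fd87ffffdbff45ffbee5ff7ffbd0911d7983e0f7c6ffffbf07f8e7f3fffffffffffffffffffffffffffbeffbfffffffff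
open scoped Cfsg.Agent.FastGrp

-- part: H901/TOrthNum
section
/-!
# Block T, orthogonal groups of even dimension: arithmetic (helper901, task 1365)
-/

set_option autoImplicit false

namespace Cfsg.Agent.H901.TOrth

open Cfsg.Agent.H202.T

theorem pow_four_mod {q : ℕ} (hq : Odd q) : q ^ 4 % 16 = 1 := by
  have h1 := two_mm hq
  have h2 := mm_mod hq
  omega

/-- If `a N = b q⁴ + c` with `p ∤ c` and `q` is large enough then `N` divides no number of the list. -/
theorem not_inL {p q N a b c : ℕ} (hp : p.Prime) (hpq : p ∣ q) (hq : Odd q) (h3 : 3 ≤ q) (hc : ¬ p ∣ c)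
    (ha : 0 < a) (hN : a * N = b * q ^ 4 + c) (h1 : a * (q ^ 3 + 1) < b * q ^ 4 + c)
    (h2 : a * (c + b + b * (q ^ 3 - q)) < b * q ^ 4 + c) (hbc : b ≠ c) (h4 : c + b < b * (q ^ 3 - q)) :
    ¬ InL p q N := by
  have hb : 0 < b := Nat.pos_of_ne_zero fun h => by subst h; omega
  have hlt : c + b + b * (q ^ 3 - q) < N := by
    by_contra hcon
    have := Nat.mul_le_mul_left a (Nat.le_of_not_lt hcon)
    omega
  have hNpos : 0 < N := by omega
  have hq3 : q ≤ q ^ 3 := by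
    calc q = q ^ 1 := (pow_one q).symm
      _ ≤ q ^ 3 := Nat.pow_le_pow_right (by omega) (by norm_num)
  have hq23 : q ^ 2 ≤ q ^ 3 := Nat.pow_le_pow_right (by omega) (by norm_num)
  have hdN : N ∣ b * q ^ 4 + c := ⟨a, by rw [← hN]; ring⟩
  have hcop : Nat.Coprime p (b * q ^ 4 + c) := by
    rw [hp.coprime_iff_not_dvd]
    intro h
    exact hc ((Nat.dvd_add_right ((hpq.trans (dvd_pow_self q (by norm_num))).mul_left b)).1 h)
  -- the entries `p ^ i * T`
  have key : ∀ i T : ℕ, 0 < T → T ≤ q ^ 3 + 1 → ¬ N ∣ p ^ i * T := by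
    intro i T hT hTq hd
    obtain ⟨k, hk⟩ := hd
    have h5 : a * (p ^ i * T) = (b * q ^ 4 + c) * k := by rw [hk, ← mul_assoc, hN]
    have h6 : p ^ i ∣ k := by
      have h7 : p ^ i ∣ (b * q ^ 4 + c) * k := ⟨a * T, by rw [← h5]; ring⟩
      exact (hcop.pow_left i).dvd_of_dvd_mul_left h7
    obtain ⟨k', rfl⟩ := h6
    have h8 : a * T = (b * q ^ 4 + c) * k' := by
      have hpi : 0 < p ^ i := pow_pos hp.pos i
      apply Nat.eq_of_mul_eq_mul_left hpi
      calc p ^ i * (a * T) = a * (p ^ i * T) := by ring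
        _ = (b * q ^ 4 + c) * (p ^ i * k') := h5
        _ = p ^ i * ((b * q ^ 4 + c) * k') := by ring
    have hk' : 0 < k' := Nat.pos_of_ne_zero fun h => by
      rw [h, mul_zero] at h8
      have := Nat.mul_pos ha hT
      omega
    have h9 : (b * q ^ 4 + c) * 1 ≤ (b * q ^ 4 + c) * k' := Nat.mul_le_mul_left _ hk'
    have h10 : a * T ≤ a * (q ^ 3 + 1) := Nat.mul_le_mul_left a hTq
    omega
  -- the entries of the first kind
  have lin : ∀ (M u v : ℕ) (w : ℤ), N ∣ M → 2 * M + u = q ^ 4 + v → (c + b * u - b * v : ℤ) = w → w ≠ 0 →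
      w < N → -w < N → False := by
    intro M u v w hM hMu hw hw0 hwN hwN'
    obtain ⟨x, hx⟩ := hM
    have e1 : (a : ℤ) * N = b * q ^ 4 + c := by exact_mod_cast hN
    have e2 : (2 : ℤ) * M + u = q ^ 4 + v := by exact_mod_cast hMu
    have e3 : (M : ℤ) = N * x := by exact_mod_cast hx
    have hd : (N : ℤ) ∣ w := ⟨(a : ℤ) - 2 * b * x, by
      rw [← hw]
      calc (c + b * u - b * v : ℤ) = b * q ^ 4 + c - b * (2 * M) := by linear_combination (b : ℤ) * e2
        _ = a * N - 2 * b * (N * x) := by rw [← e1, e3]; ring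
        _ = N * (a - 2 * b * x) := by ring⟩
    have h6 := Int.le_of_dvd (abs_pos.2 hw0) ((dvd_abs _ _).2 hd)
    exact absurd h6 (not_le.2 (abs_lt.2 ⟨by linarith only [hwN'], hwN⟩))
  obtain ⟨k, rfl⟩ := hq
  have hk1 : (2 * k + 1 - 1) / 2 = k := by omega
  have hk2 : (2 * k + 1 + 1) / 2 = k + 1 := by omega
  have m2 := two_mm (q := 2 * k + 1) ⟨k, rfl⟩
  have hX : (2 * k + 1) ^ 3 - (2 * k + 1) + (2 * k + 1) = (2 * k + 1) ^ 3 := Nat.sub_add_cancel hq3
  set Y := (2 * k + 1) ^ 3 - (2 * k + 1) with hY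
  have hYz : (Y : ℤ) = (2 * k + 1) ^ 3 - (2 * k + 1) := by
    have : ((Y + (2 * k + 1) : ℕ) : ℤ) = (((2 * k + 1) ^ 3 : ℕ) : ℤ) := by rw [hX]
    push_cast at this
    linarith only [hX]
  have hbY : (c : ℤ) + b < b * Y := by exact_mod_cast h4
  have hltz : (c : ℤ) + b + b * Y < N := by exact_mod_cast hlt
  have hb0 : (0 : ℤ) < b := by exact_mod_cast hb
  have hc0 : (0 : ℤ) ≤ c := by (clear * -; positivity)
  have hbcz : (b : ℤ) ≠ c := by exact_mod_cast hbc
  rintro (h | h | h | h | h | h | h | h | h | ⟨rfl, h | h⟩ | ⟨rfl, h | h⟩ | ⟨rfl, h⟩)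
  · exact lin _ 0 1 (c - b) h (by omega) (by push_cast; ring) (by intro h; apply hbcz; linarith only [h])
      (by linarith only [hbY, hltz, hb0, hc0]) (by linarith only [hbY, hltz, hb0, hc0])
  · have hM : 2 * (((2 * k + 1) ^ 4 - 1) / 2) + 1 = (2 * k + 1) ^ 4 + 0 := by
      have := pow_four_mod (q := 2 * k + 1) ⟨k, rfl⟩
      (clear * - this; omega)
    exact lin _ 1 0 (c + b) h hM (by push_cast; ring)
      (fun h => by linarith only [h, hbY, hltz, hb0, hc0]) (by linarith only [hbY, hltz, hb0, hc0])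
      (by linarith only [hbY, hltz, hb0, hc0])
  · rw [hk1] at h
    have hM : 2 * (((2 * k + 1) ^ 3 + 1) * k) + (Y + 1) = (2 * k + 1) ^ 4 + 0 := by
      zify
      rw [hYz]
      ring
    exact lin _ (Y + 1) 0 (c + b + b * Y) h hM (by push_cast; ring)
      (fun h => by linarith only [h, hbY, hltz, hb0, hc0]) (by linarith only [hbY, hltz, hb0, hc0])
      (by linarith only [hbY, hltz, hb0, hc0])
  · rw [hk2] at h
    have hM : 2 * (((2 * k + 1) ^ 3 - 1) * (k + 1)) + 1 = (2 * k + 1) ^ 4 + Y := by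
      have h5 : (2 * k + 1) ^ 3 - 1 + 1 = (2 * k + 1) ^ 3 := Nat.sub_add_cancel (Nat.one_le_pow _ _ (by omega))
      have h6 : (((2 * k + 1) ^ 3 - 1 : ℕ) : ℤ) = (2 * k + 1) ^ 3 - 1 := by
        have : (((2 * k + 1) ^ 3 - 1 + 1 : ℕ) : ℤ) = (((2 * k + 1) ^ 3 : ℕ) : ℤ) := by rw [h5]
        push_cast at this
        linarith only [h5]
      zify
      rw [hYz, h6]
      ring
    exact lin _ 1 Y (c + b - b * Y) h hM (by push_cast; ring)
      (fun h => by linarith only [h, hbY, hltz, hb0, hc0]) (by linarith only [hbY, hltz, hb0, hc0])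
      (by linarith only [hbY, hltz, hb0, hc0])
  · exact key 1 ((2 * k + 1) ^ 3 + 1) (by (clear * -; positivity)) le_rfl (by rwa [pow_one])
  · exact key 1 ((2 * k + 1) ^ 3 - 1) (by
      have : 3 ^ 3 ≤ (2 * k + 1) ^ 3 := Nat.pow_le_pow_left h3 3
      (clear * - this; omega)) (by (clear * -; omega)) (by rwa [pow_one])
  · rw [hk2] at h
    refine key 1 (((2 * k + 1) ^ 2 + 1) * (k + 1)) (by (clear * -; positivity)) ?_ (by rwa [pow_one])
    have : (2 * k + 1) ^ 3 + 1 = ((2 * k + 1) ^ 2 + 1) * (k + 1) + (4 * k ^ 3 + 4 * k ^ 2) := by ring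
    rw [this]
    exact Nat.le_add_right _ _
  · rw [hk1] at h
    refine key 1 (((2 * k + 1) ^ 2 + 1) * k) (Nat.mul_pos (by (clear * -; positivity)) (by omega)) ?_ (by rwa [pow_one])
    have : (2 * k + 1) ^ 3 + 1 = ((2 * k + 1) ^ 2 + 1) * k + (4 * k ^ 3 + 8 * k ^ 2 + 4 * k + 2) := by ring
    rw [this]
    exact Nat.le_add_right _ _
  · exact key 1 ((2 * k + 1) ^ 2 - 1) (by
      have : 3 ^ 2 ≤ (2 * k + 1) ^ 2 := Nat.pow_le_pow_left h3 2
      omega) (by (clear * - hq23; omega)) (by rwa [pow_one])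
  · exact key 2 ((2 * k + 1) ^ 2 + 1) (by (clear * -; positivity)) (by omega) h
  · exact key 2 ((2 * k + 1) ^ 2 - 1) (by
      have : 3 ^ 2 ≤ (2 * k + 1) ^ 2 := Nat.pow_le_pow_left h3 2
      omega) (by (clear * - hq23; omega)) h
  · exact key 2 (2 * k + 1 + 1) (by (clear * -; positivity)) (by (clear * - hX; omega)) h
  · exact key 2 (2 * k + 1 - 1) (by (clear * - hpq; omega)) (by (clear * - hX; omega)) h
  · exact key 2 2 (by norm_num) (by
      have : 3 ^ 3 ≤ (2 * k + 1) ^ 3 := Nat.pow_le_pow_left h3 3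
      omega) h

/-- the size conditions -/
theorem size {q a b c Q : ℕ} (hQ : Q ≤ q) (h2 : a * (c + b + b * q ^ 3) < b * (Q * q ^ 3) + c)
    (h4 : c + b + b * q < b * q ^ 3) : 
    a * (q ^ 3 + 1) < b * q ^ 4 + c ∧ a * (c + b + b * (q ^ 3 - q)) < b * q ^ 4 + c ∧ c + b < b * (q ^ 3 - q) := by
  have hb : 0 < b := Nat.pos_of_ne_zero fun h => by subst h; omega
  have h5 : b * (Q * q ^ 3) ≤ b * q ^ 4 := by
    apply Nat.mul_le_mul_left
    calc Q * q ^ 3 ≤ q * q ^ 3 := Nat.mul_le_mul_right _ hQ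
      _ = q ^ 4 := by ring
  refine ⟨?_, ?_, ?_⟩
  · have h6 : a * (q ^ 3 + 1) ≤ a * (c + b + b * q ^ 3) := by
      apply Nat.mul_le_mul_left
      have : 1 * q ^ 3 ≤ b * q ^ 3 := Nat.mul_le_mul_right _ hb
      omega
    omega
  · have h6 : a * (c + b + b * (q ^ 3 - q)) ≤ a * (c + b + b * q ^ 3) := by
      apply Nat.mul_le_mul_left
      have : b * (q ^ 3 - q) ≤ b * q ^ 3 := Nat.mul_le_mul_left _ (Nat.sub_le _ _)
      omega
    omega
  · rw [Nat.mul_sub]
    omega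

theorem seven_le {p q : ℕ} (hp : p.Prime) (hp2 : p ≠ 2) (hp3 : p ≠ 3) (hp5 : p ≠ 5) (hpq : p ∣ q) (hq : Odd q) :
    7 ≤ q := by
  have h1 := Nat.le_of_dvd hq.pos hpq
  have h2 := hp.two_le
  have h4 : p ≠ 4 := by rintro rfl; exact absurd hp (by norm_num)
  have h6 : p ≠ 6 := by rintro rfl; exact absurd hp (by norm_num)
  omega

theorem cube_big {q : ℕ} (h : 5 ≤ q) : 25 * q ≤ q ^ 3 := by
  have h1 : 5 ^ 2 ≤ q ^ 2 := Nat.pow_le_pow_left h 2
  calc 25 * q ≤ q ^ 2 * q := Nat.mul_le_mul_right q h1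
    _ = q ^ 3 := by ring

theorem cube_big' {q : ℕ} (h : 7 ≤ q) : 49 * q ≤ q ^ 3 := by
  have h1 : 7 ^ 2 ≤ q ^ 2 := Nat.pow_le_pow_left h 2
  calc 49 * q ≤ q ^ 2 * q := Nat.mul_le_mul_right q h1
    _ = q ^ 3 := by ring

theorem pow_pred {a n : ℕ} (hn : 1 ≤ n) : a ^ n = a * a ^ (n - 1) := by
  obtain ⟨m, rfl⟩ : ∃ m, n = m + 1 := ⟨n - 1, by omega⟩
  rw [pow_succ, Nat.add_sub_cancel]
  ring

section

variable {p q n N : ℕ} (hp : p.Prime) (hp2 : p ≠ 2) (hpq : p ∣ q) (hq : Odd q)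

include hp hp2 hpq hq

theorem p3 (hj : Odd n) (h : 3 ^ n = q ^ 4 + 2) (hN : 2 * N = 3 ^ (n - 1) + 1) : ¬ InL p q N := by
  have hn1 : 1 ≤ n := hj.pos
  have h0 := pow_pred (a := 3) hn1
  have hN' : 6 * N = 1 * q ^ 4 + 5 := by omega
  have hpp : p ∣ q ^ 4 := hpq.trans (dvd_pow_self q (by norm_num))
  have h16 := pow_four_mod hq
  have hp3 : p ≠ 3 := by
    rintro rfl
    have h1 : 3 ∣ 3 ^ n := dvd_pow_self 3 (by (clear * - h h0 hpp; omega))
    rw [h] at h1
    have := (Nat.dvd_add_right hpp).1 h1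
    (clear * - h h0 hpp; omega)
  have h80 : 3 ^ n % 80 = 3 ∨ 3 ^ n % 80 = 27 := by
    obtain ⟨i, hi⟩ := hj
    have h81 : ∀ t : ℕ, 81 ^ t % 80 = 1 := fun t => by
      rw [Nat.pow_mod]
      norm_num
    rcases Nat.even_or_odd i with ⟨t, ht⟩ | ⟨t, ht⟩
    · left
      have e : n = 4 * t + 1 := by omega
      rw [e, pow_succ, pow_mul, Nat.mul_mod]
      norm_num [h81]
    · right
      have e : n = 4 * t + 3 := by omega
      rw [e, pow_add, pow_mul, Nat.mul_mod]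
      norm_num [h81]
  have hp5 : p ≠ 5 := by
    rintro rfl
    (clear * - h h16 h80 hpp; omega)
  have h7 := seven_le hp hp2 hp3 hp5 hpq hq
  have h3 := cube_big' h7
  obtain ⟨k1, k2, k3⟩ := size (q := q) (a := 6) (b := 1) (c := 5) h7 (by omega) (by omega)
  exact not_inL hp hpq hq (by omega) (fun h => hp5 ((Nat.prime_dvd_prime_iff_eq hp (by norm_num)).1 h)) (by norm_num)
    hN' k1 k2 (by norm_num) k3

theorem p5 (hn1 : 1 ≤ n) (h : 5 ^ n = 2 * q ^ 4 + 3) (hN : 2 * N = 5 ^ (n - 1) + 1) : ¬ InL p q N := by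
  have h0 := pow_pred (a := 5) hn1
  have hN' : 5 * N = 1 * q ^ 4 + 4 := by omega
  have hpp : p ∣ 2 * q ^ 4 := (hpq.trans (dvd_pow_self q (by norm_num))).mul_left 2
  have hp3 : p ≠ 3 := by
    rintro rfl
    have h1 : 3 ∣ 5 ^ n := by
      rw [h]
      exact dvd_add hpp dvd_rfl
    exact absurd (Nat.prime_three.dvd_of_dvd_pow h1) (by norm_num)
  have hp5 : p ≠ 5 := by
    rintro rfl
    have h1 : 5 ∣ 5 ^ n := dvd_pow_self 5 (by omega)
    rw [h] at h1
    have := (Nat.dvd_add_right hpp).1 h1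
    omega
  have h7 := seven_le hp hp2 hp3 hp5 hpq hq
  have h3 := cube_big' h7
  obtain ⟨k1, k2, k3⟩ := size (q := q) (a := 5) (b := 1) (c := 4) h7 (by omega) (by omega)
  exact not_inL hp hpq hq (by omega)
    (fun h => hp2 ((Nat.prime_dvd_prime_iff_eq hp Nat.prime_two).1 (hp.dvd_of_dvd_pow (show p ∣ 2 ^ 2 from h))))
    (by norm_num) hN' k1 k2 (by norm_num) k3

theorem m1 (hn1 : 1 ≤ n) (h : 3 ^ n = 2 * q ^ 4 + 1) (hN : 2 * N = 3 ^ (n - 1) + 1) : ¬ InL p q N := by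
  have h0 := pow_pred (a := 3) hn1
  have hN' : 3 * N = 1 * q ^ 4 + 2 := by omega
  have hpp : p ∣ 2 * q ^ 4 := (hpq.trans (dvd_pow_self q (by norm_num))).mul_left 2
  have hp3 : p ≠ 3 := by
    rintro rfl
    have h1 : 3 ∣ 3 ^ n := dvd_pow_self 3 (by omega)
    rw [h] at h1
    have := (Nat.dvd_add_right hpp).1 h1
    omega
  have h5 : 5 ≤ q := by
    have h1 := Nat.le_of_dvd hq.pos hpq
    have h2 := hp.two_le
    have h4 : p ≠ 4 := by rintro rfl; exact absurd hp (by norm_num)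
    omega
  have h3 := cube_big h5
  obtain ⟨k1, k2, k3⟩ := size (q := q) (a := 3) (b := 1) (c := 2) h5 (by omega) (by omega)
  exact not_inL hp hpq hq (by omega)
    (fun h => hp2 ((Nat.prime_dvd_prime_iff_eq hp Nat.prime_two).1 h))
    (by norm_num) hN' k1 k2 (by norm_num) k3

theorem m2 (hn1 : 1 ≤ n) (h : 3 ^ (n - 1) = q ^ 4) (hN : 4 * N = 3 ^ n + 1) : ¬ InL p q N := by
  have h0 := pow_pred (a := 3) hn1
  have hN' : 4 * N = 3 * q ^ 4 + 1 := by omega
  have hp3 : p = 3 := by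
    have h1 : p ∣ 3 ^ (n - 1) := by
      rw [h]
      exact hpq.trans (dvd_pow_self q (by norm_num))
    exact (Nat.prime_dvd_prime_iff_eq hp Nat.prime_three).1 (hp.dvd_of_dvd_pow h1)
  subst hp3
  have hq3 : 3 ≤ q := Nat.le_of_dvd hq.pos hpq
  rcases Nat.lt_or_ge q 5 with h5 | h5
  · have hq3' : q = 3 := by
      obtain ⟨k, hk⟩ := hq
      omega
    subst hq3'
    have hN61 : N = 61 := by omega
    subst hN61
    unfold InL mm
    norm_num
  · have h3 := cube_big h5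
    obtain ⟨k1, k2, k3⟩ := size (q := q) (a := 4) (b := 3) (c := 1) h5 (by (clear * - h5 h3; omega)) (by omega)
    exact not_inL hp hpq hq hq3 (by norm_num) (by norm_num) hN' k1 k2 (by norm_num) k3

end

end Cfsg.Agent.H901.TOrth
end

-- part: H901/TOrthGrp
section
/-!
# Block T, orthogonal groups of even dimension: elements (helper901, task 1365)

The transfer lemmas of H182.PGOrth with exact orders.
-/

set_option autoImplicit false
set_option linter.unusedSectionVars false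

namespace Cfsg.Agent.H901.TOrth

open QuadraticMap
open Cfsg.Agent.LieClassical.OrthCore Cfsg.Agent.LieClassical.OrthForms
open Cfsg.Agent.H182.Sign Cfsg.Agent.H403.Classify Cfsg.Agent.H182.Orth
open Cfsg.Agent.H94

section

variable {ι : Type} [Fintype ι] [DecidableEq ι] {F : Type*} [Field F] [Finite F]

seal _root_.Finset.sum _root_.dotProduct in
/-- The element of `PΩ` and its powers. -/
theorem exists_elem {Q : QuadraticForm F (ι → F)} {m : ℕ} {ε : ℤ} (hQ : Sg Q m ε) (hm : 3 ≤ m) {d : ℕ}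
    {P : QuadraticForm F (Fin d → F)} {g : Module.End F (Fin d → F)} (hs : Sg P m ε) (hg : ∀ v, P (g v) = P v)
    {N : ℕ} (hN : 0 < N) (ho : orderOf g = N) :
    ∃ s : Cfsg.POmega F ⇑Q, (∀ k : ℕ, s ^ k = 1 ↔ g ^ (2 * k) = 1 ∨ g ^ (2 * k) = -1) := by
  obtain ⟨e, he⟩ := hs.exists_equiv hQ
  obtain ⟨h, hho, hpow⟩ := exists_isometry Q e he g hg hN ho
  have hcard : Fintype.card ι = 2 * m := by
    rw [← Module.finrank_fintype_fun_eq_card F, hQ.dim]
  have hnd : (polarBilin Q).Nondegenerate := nondegenerate_iff_nondeg.2 hQ.nondeg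
  have hsing : ∃ u : ι → F, u ≠ 0 ∧ Q u = 0 := by
    obtain ⟨w, hw0, hw, -⟩ := Cfsg.Agent.LieClassical.OrthFinite.exists_sing_perp (Q := Q) (n := 0) ![] (by
      rw [hQ.dim]; omega)
    exact ⟨w, hw0, hw⟩
  let t : Cfsg.Omega F ⇑Q := ⟨h ^ 2, sq_mem_Omega Q hnd (by omega) h⟩
  refine ⟨QuotientGroup.mk t, fun k => ?_⟩
  have h2 : ((t ^ k : Cfsg.Omega F ⇑Q) : Cfsg.isometryGroup F ⇑Q) = h ^ (2 * k) := by
    rw [pow_mul]
    rfl
  rw [← QuotientGroup.mk_pow, QuotientGroup.eq_one_iff,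
    Cfsg.Agent.LieClassical.OrthCenter.mem_center_omega_iff hnd (by omega) hsing, h2, hpow]
  have e1 : LinearMap.toMatrix' (e.conj (g ^ (2 * k))) = 1 ↔ g ^ (2 * k) = 1 := by
    constructor
    · intro h3
      apply e.conj.injective
      rw [conj_one]
      apply LinearMap.toMatrix'.injective
      rw [h3, LinearMap.toMatrix'_one]
    · intro h3
      rw [h3, conj_one]
      exact LinearMap.toMatrix'_one
  have e2 : LinearMap.toMatrix' (e.conj (g ^ (2 * k))) = -1 ↔ g ^ (2 * k) = -1 := by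
    constructor
    · intro h3
      apply e.conj.injective
      rw [map_neg, conj_one]
      apply LinearMap.toMatrix'.injective
      rw [h3, map_neg, LinearMap.toMatrix'_one]
    · intro h3
      rw [h3, map_neg, conj_one, map_neg, LinearMap.toMatrix'_one]
  rw [e1, e2]

/-- **The transfer lemma, no power is `-1`.** -/
theorem exists_of_eltP {Q : QuadraticForm F (ι → F)} {m : ℕ} {ε : ℤ} (hQ : Sg Q m ε) (hm : 3 ≤ m) {N : ℕ}
    (h : EltP F m ε N) : ∃ s : Cfsg.POmega F ⇑Q, orderOf s = N / N.gcd 2 := by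
  obtain ⟨hN, d, P, g, hs, hg, ho, hneg⟩ := h
  obtain ⟨s, hs⟩ := exists_elem hQ hm hs hg hN ho
  refine ⟨s, ?_⟩
  have h1 : orderOf s = orderOf (g ^ 2) := by
    rw [orderOf_eq_orderOf_iff]
    intro k
    rw [hs k, ← pow_mul]
    refine ⟨fun h => h.elim id fun h => ?_, Or.inl⟩
    have h2 : (2 : F) = 0 := hneg _ h
    rw [h]
    have h8 : (-1 : F) = 1 := by linear_combination -h2
    rw [← one_smul F (1 : Module.End F (Fin d → F)), ← neg_smul, h8]
  rw [h1, orderOf_pow' g two_ne_zero, ho]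

/-- **The transfer lemma, general.** -/
theorem exists_of_elt {Q : QuadraticForm F (ι → F)} {m : ℕ} {ε : ℤ} (hQ : Sg Q m ε) (hm : 3 ≤ m) {N : ℕ}
    (h : Elt F m ε N) : ∃ (s : Cfsg.POmega F ⇑Q) (c : ℕ), c ≤ 2 ∧ N = 2 ^ c * orderOf s := by
  obtain ⟨hN, d, P, g, hs, hg, ho⟩ := h
  obtain ⟨s, hs⟩ := exists_elem hQ hm hs hg hN ho
  refine ⟨s, ?_⟩
  have h1 : orderOf s ∣ N := by
    apply orderOf_dvd_of_pow_eq_one
    rw [hs]
    left
    rw [mul_comm, pow_mul, ← ho, pow_orderOf_eq_one, one_pow]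
  have h2 : N ∣ 4 * orderOf s := by
    rw [← ho]
    apply orderOf_dvd_of_pow_eq_one
    have h3 := (hs (orderOf s)).1 (pow_orderOf_eq_one s)
    have h4 : g ^ (4 * orderOf s) = (g ^ (2 * orderOf s)) ^ 2 := by
      rw [← pow_mul]
      congr 1
      ring
    rw [h4]
    rcases h3 with h3 | h3 <;> rw [h3]
    · exact one_pow 2
    · rw [pow_two]
      refine LinearMap.ext fun v => ?_
      simp only [_root_.Module.End.mul_apply, _root_.LinearMap.neg_apply, _root_.Module.End.one_apply, _root_.neg_neg]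
  obtain ⟨c, hc⟩ := h1
  have hs0 : 0 < orderOf s := Nat.pos_of_ne_zero fun h => by rw [h, zero_mul] at hc; omega
  have h3 : c ∣ 2 ^ 2 := by
    rw [hc, mul_comm 4] at h2
    exact Nat.dvd_of_mul_dvd_mul_left hs0 h2
  obtain ⟨i, hi, rfl⟩ := (Nat.dvd_prime_pow Nat.prime_two).1 h3
  exact ⟨i, hi, by rw [hc, mul_comm]⟩

/-- Extension by the identity: no power is `-1`. -/
theorem eltP_extend {n m : ℕ} {ε δ : ℤ} {N : ℕ} (h : Elt F n ε N) (hnm : n < m) (hε : ε = 1 ∨ ε = -1)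
    (hδ : δ = 1 ∨ δ = -1) : EltP F m δ N := by
  have h1 : EltP F (m - n) (ε * δ) 1 := (elt_one (F := F) (n := m - n) (by omega) (_root_.Cfsg.Agent.H182.Orth.sign_mul hε hδ)).odd odd_one
    (by omega)
  have h2 := h1.prod h
  have h3 : m - n + n = m := by omega
  have h4 : ε * δ * ε = δ := by
    rcases hε with rfl | rfl <;> ring
  rw [h3, h4, Nat.lcm_one_left] at h2
  exact h2

end

end Cfsg.Agent.H901.TOrth
end

-- part: H901/TOrthMain
section
/-!
# Block T, orthogonal groups of even dimension: the elimination (helper901, task 1365)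
-/

set_option autoImplicit false
set_option linter.unusedSectionVars false

namespace Cfsg.Agent.H901.TOrth

open QuadraticMap
open Cfsg.Agent.LieClassical.OrthCore Cfsg.Agent.LieClassical.OrthForms
open Cfsg.Agent.H182.Sign Cfsg.Agent.H403.Classify Cfsg.Agent.H182.Orth
open Cfsg.Agent.H94 Cfsg.Agent.H202.T

/-! ### The primes not connected with 2 -/

/-- The arithmetic properties of a prime not connected with `2`. -/
structure NCf (u n r : ℕ) : Prop where
  prime : r.Prime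
  two : r ≠ 2
  char : ¬ r ∣ u
  sub : ∀ i, 1 ≤ i → i + 2 ≤ n → ¬ r ∣ u ^ i - 1
  add : ∀ i, 1 ≤ i → i + 2 ≤ n → ¬ r ∣ u ^ i + 1

theorem dsub {r u i : ℕ} (hu : 1 ≤ u) : r ∣ u ^ i - 1 ↔ (u : ZMod r) ^ i = 1 := by
  have h1 : 1 ≤ u ^ i := Nat.one_le_pow _ _ hu
  rw [← ZMod.natCast_eq_zero_iff, Nat.cast_sub h1]
  push_cast
  exact sub_eq_zero

theorem dadd {r u i : ℕ} : r ∣ u ^ i + 1 ↔ (u : ZMod r) ^ i = -1 := by
  rw [← ZMod.natCast_eq_zero_iff]
  push_cast
  exact add_eq_zero_iff_eq_neg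

section num

variable {u n r : ℕ}

theorem NCf.one_ne (h : NCf u n r) : (1 : ZMod r) ≠ -1 := by
  intro h1
  have h2 : ((2 : ℕ) : ZMod r) = 0 := by
    push_cast
    linear_combination h1
  rw [ZMod.natCast_eq_zero_iff] at h2
  exact h.two ((Nat.prime_dvd_prime_iff_eq h.prime Nat.prime_two).1 h2)

theorem NCf.ne_one (h : NCf u n r) (hu : 1 ≤ u) (hn : 3 ≤ n) : (u : ZMod r) ≠ 1 := by
  intro h1
  exact h.sub 1 le_rfl hn ((dsub hu).2 (by rw [pow_one]; exact h1))

theorem NCf.ne_neg_one (h : NCf u n r) (hn : 3 ≤ n) : (u : ZMod r) ≠ -1 := by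
  intro h1
  exact h.add 1 le_rfl hn (dadd.2 (by rw [pow_one]; exact h1))

theorem pow_pred' {r u n : ℕ} (hn : 1 ≤ n) : (u : ZMod r) ^ n = u * (u : ZMod r) ^ (n - 1) := by
  obtain ⟨m, rfl⟩ : ∃ m, n = m + 1 := ⟨n - 1, by omega⟩
  rw [pow_succ, Nat.add_sub_cancel]
  ring

/-- Exclusions. -/
theorem NCf.excl (h : NCf u n r) (hu : 1 ≤ u) (hn : 3 ≤ n) :
    (r ∣ u ^ n - 1 → ¬ r ∣ u ^ (n - 1) - 1 ∧ ¬ r ∣ u ^ (n - 1) + 1) ∧
    (r ∣ u ^ n + 1 → ¬ r ∣ u ^ (n - 1) - 1 ∧ ¬ r ∣ u ^ (n - 1) + 1) ∧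
    (r ∣ u ^ (n - 1) - 1 → ¬ r ∣ u ^ (n - 1) + 1) := by
  have e := pow_pred' (r := r) (u := u) (n := n) (by omega)
  have h1 := h.ne_one hu hn
  have h2 := h.ne_neg_one hn
  have h3 := h.one_ne
  simp only [dsub hu, dadd]
  refine ⟨fun a => ⟨fun b => h1 ?_, fun b => h2 ?_⟩, fun a => ⟨fun b => h2 ?_, fun b => h1 ?_⟩, fun a b => h3 ?_⟩
  · rw [b, mul_one] at e
    rw [← e, a]
  · rw [b, a] at e
    linear_combination e
  · rw [b, mul_one] at e
    rw [← e, a]
  · rw [b, a] at e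
    linear_combination e
  · exact a.symm.trans b

/-- The prime powers dividing the order. -/
theorem NCf.pow_dvd (h : NCf u n r) (hn : 4 ≤ n) {k g K c : ℕ}
    (hcard : g * K = u ^ (n * (n - 1)) * c * ∏ i ∈ Finset.range (n - 1), (u ^ (2 * (i + 1)) - 1))
    (hk : r ^ k ∣ K) : r ^ k ∣ c * ((u ^ (n - 1) + 1) * (u ^ (n - 1) - 1)) := by
  have h1 : r ^ k ∣ u ^ (n * (n - 1)) * c * ∏ i ∈ Finset.range (n - 1), (u ^ (2 * (i + 1)) - 1) := by
    rw [← hcard]
    exact hk.mul_left g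
  obtain ⟨m, rfl⟩ : ∃ m, n = m + 2 := ⟨n - 2, by omega⟩
  have e1 : m + 2 - 1 = m + 1 := rfl
  rw [e1, Finset.prod_range_succ] at h1
  have e2 : u ^ (2 * (m + 1)) - 1 = (u ^ (m + 1) + 1) * (u ^ (m + 1) - 1) := by
    rw [mul_comm 2 (m + 1), pow_mul]
    exact Nat.sq_sub_sq (u ^ (m + 1)) 1
  rw [e2] at h1
  set P := ∏ x ∈ Finset.range m, (u ^ (2 * (x + 1)) - 1) with hP
  have h2 : ¬ r ∣ u ^ ((m + 2) * (m + 1)) * P := by
    intro h3
    rcases (Nat.Prime.dvd_mul h.prime).1 h3 with h4 | h4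
    · exact h.char (h.prime.dvd_of_dvd_pow h4)
    · obtain ⟨i, hi, h5⟩ := (Prime.dvd_finsetProd_iff h.prime.prime _).1 h4
      rw [Finset.mem_range] at hi
      rcases dvd_sq_sub h.prime h5 with h6 | h6
      · exact h.sub (i + 1) (by omega) (by omega) h6
      · exact h.add (i + 1) (by omega) (by omega) h6
  have h3 : r ^ k ∣ (u ^ ((m + 2) * (m + 1)) * P) * (c * ((u ^ (m + 1) + 1) * (u ^ (m + 1) - 1))) := by
    convert h1 using 1
    ring
  exact (((h.prime.coprime_iff_not_dvd.2 h2)).pow_left k).dvd_of_dvd_mul_left h3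

theorem pow_dvd_left {r k a b : ℕ} (hr : r.Prime) (h : r ^ k ∣ a * b) (hb : ¬ r ∣ b) : r ^ k ∣ a :=
  ((hr.coprime_iff_not_dvd.2 hb).pow_left k).dvd_of_dvd_mul_right h

theorem pow_dvd_right {r k a b : ℕ} (hr : r.Prime) (h : r ^ k ∣ a * b) (ha : ¬ r ∣ a) : r ^ k ∣ b :=
  ((hr.coprime_iff_not_dvd.2 ha).pow_left k).dvd_of_dvd_mul_left h

end num

section

variable {F : Type*} [Field F] [Finite F] {ι : Type} [Fintype ι] [DecidableEq ι] {Q : QuadraticForm F (ι → F)}
  {n p q : ℕ} {ε : ℤ}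

theorem ncf (hQ : Sg Q n ε) (hn : 4 ≤ n) (h : T4 p q (Cfsg.POmega F ⇑Q)) {r : ℕ} (hr : r.Prime)
    (hrm : r ∣ mm q) : NCf (Nat.card F) n r := by
  have hr2 := ne_two_of_dvd h.odd hrm
  have hc : ¬ PG.Conn (Cfsg.POmega F ⇑Q) 2 r := fun hc => h.not_conn hrm hc.symm
  exact ⟨hr, hr2, fun h1 => hc (conn_two_of_dvd_card hQ hn hr hr2 h1),
    fun i h1 h2 h3 => hc (conn_two_pow_sub hQ hn h1 h2 hr hr2 h3),
    fun i h1 h2 h3 => hc (conn_two_pow_add hQ hn h1 h2 hr hr2 h3)⟩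

/-- The main principle for the element of a torus. -/
theorem eq_of_torus (h : T4 p q (Cfsg.POmega F ⇑Q)) {M c r : ℕ} {s : Cfsg.POmega F ⇑Q} (hM : M = 2 ^ c * orderOf s)
    (hr : r.Prime) (hrm : r ∣ mm q) (hrM : r ∣ M)
    (hv : ∀ s k : ℕ, s.Prime → s ∣ mm q → s ^ k ∣ Nat.card (Cfsg.POmega F ⇑Q) → s ^ k ∣ M) :
    orderOf s = mm q := by
  have h2 : ∀ {t : ℕ}, t.Prime → t ∣ mm q → ¬ t ∣ 2 ^ c := fun ht htm htd =>
    ne_two_of_dvd h.odd htm ((Nat.prime_dvd_prime_iff_eq ht Nat.prime_two).1 (ht.dvd_of_dvd_pow htd))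
  refine h.eq_of hr hrm ?_ ⟨s, rfl⟩ ?_
  · rw [hM] at hrM
    exact ((Nat.Prime.dvd_mul hr).1 hrM).resolve_left (h2 hr hrm)
  · intro t k ht htm _ hk
    have h3 := hv t k ht htm hk
    rw [hM] at h3
    exact pow_dvd_right ht h3 (h2 ht htm)

end

/-- A number all of whose prime divisors are `2` and which divides `2 ^ c * m`, `m` odd. -/
theorem pow_two_of {w c m : ℕ} (hw : w ≠ 0) (h : ∀ r, r.Prime → r ∣ w → r = 2) (hd : w ∣ 2 ^ c * m) (hm : Odd m) :
    ∃ b, b ≤ c ∧ w = 2 ^ b := by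
  have h1 := Nat.eq_prime_pow_of_unique_prime_dvd hw (fun {r} hr hd => h r hr hd)
  rw [h1] at hd ⊢
  refine ⟨_, ?_, rfl⟩
  have h2 : 2 ^ w.primeFactorsList.length ∣ 2 ^ c :=
    ((Nat.coprime_two_left.2 hm).pow_left _).dvd_of_dvd_mul_right hd
  exact (Nat.pow_dvd_pow_iff_le_right (by norm_num)).1 h2

/-- `q⁴ - 1` is not twice a power of an even prime power. -/
theorem not_even_pow {q u t : ℕ} (hq : Odd q) (h3 : 3 ≤ q) (hu : ∀ r, r.Prime → r ∣ u → r = 2)
    (h : 2 * u ^ t + 1 = q ^ 4) : False := by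
  have h16 := pow_four_mod hq
  have hsq : q ^ 2 % 8 = 1 := by
    obtain ⟨k, rfl⟩ := hq
    obtain ⟨c, hc⟩ := Nat.even_mul_succ_self k
    have e : (2 * k + 1) ^ 2 = 8 * c + 1 := by linarith only [hc]
    omega
  have h9 : 3 ^ 2 ≤ q ^ 2 := Nat.pow_le_pow_left h3 2
  obtain ⟨r, hr, hrd⟩ := Nat.exists_prime_and_dvd (n := (q ^ 2 + 1) / 2) (by omega)
  have h2 : 2 * ((q ^ 2 + 1) / 2) = q ^ 2 + 1 := by omega
  have hr2 : r ≠ 2 := by
    rintro rfl
    omega
  have h4 : r ∣ q ^ 2 + 1 := by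
    rw [← h2]
    exact hrd.mul_left 2
  have h5 : q ^ 4 - 1 = (q ^ 2 + 1) * (q ^ 2 - 1) := by
    have := Nat.sq_sub_sq (q ^ 2) 1
    rw [one_pow, ← pow_mul] at this
    exact this
  have h6 : r ∣ 2 * u ^ t := by
    have h7 : 2 * u ^ t = q ^ 4 - 1 := by (clear * - h; omega)
    rw [h7, h5]
    exact h4.mul_right _
  rcases (Nat.Prime.dvd_mul hr).1 h6 with h7 | h7
  · exact hr2 ((Nat.prime_dvd_prime_iff_eq hr Nat.prime_two).1 h7)
  · exact hr2 (hu r hr (hr.dvd_of_dvd_pow h7))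

section plus

variable {F : Type*} [Field F] [Finite F] {ι : Type} [Fintype ι] [DecidableEq ι] {Q : QuadraticForm F (ι → F)}
  {n p q : ℕ}

theorem pow_mod_three {j : ℕ} (hj : Odd j) : 3 ^ j % 8 = 3 := by
  obtain ⟨i, rfl⟩ := hj
  rw [pow_succ, pow_mul, Nat.mul_mod, Nat.pow_mod]
  norm_num

theorem pow_mod_five {j : ℕ} (hj : Odd j) : 5 ^ j % 8 = 5 := by
  obtain ⟨i, rfl⟩ := hj
  rw [pow_succ, pow_mul, Nat.mul_mod, Nat.pow_mod]
  norm_num

theorem plus_false (hQ : Sg Q n 1) (hn : 4 ≤ n) {g : ℕ}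
    (hcard : g * Nat.card (Cfsg.POmega F ⇑Q) = Nat.card F ^ (n * (n - 1)) * (Nat.card F ^ n - 1) *
      ∏ i ∈ Finset.range (n - 1), (Nat.card F ^ (2 * (i + 1)) - 1))
    (h : T4 p q (Cfsg.POmega F ⇑Q)) : False := by
  have hu : 1 < Nat.card F := Finite.one_lt_card
  set u := Nat.card F with hudef
  have hodd := h.odd
  have h8 := mm_mod hodd
  have hm2 := two_mm hodd
  have h3q := h.three_le
  obtain ⟨r₀, hr₀, hrm₀⟩ := exists_prime_mm h3q
  -- the exponent
  obtain ⟨j, hjo, hj3, hjn, hR⟩ : ∃ j, Odd j ∧ 3 ≤ j ∧ (j = n ∨ j = n - 1) ∧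
      ∀ r, r.Prime → r ∣ mm q → r ∣ u ^ j - 1 := by
    have key : ∀ r, r.Prime → r ∣ mm q → (Odd (n - 1) ∧ r ∣ u ^ (n - 1) - 1) ∨ (Odd n ∧ r ∣ u ^ n - 1) := by
      intro r hr hrm
      rcases plus_cases hQ hn hcard hr (ne_two_of_dvd hodd hrm) (hrm.trans h.dvd_card) with h1 | ⟨h1, h2, -⟩ | h1
      · exact absurd h1.symm (h.not_conn hrm)
      · exact Or.inl ⟨h1, h2⟩
      · exact Or.inr h1
    rcases Nat.even_or_odd n with he | ho
    · refine ⟨n - 1, ?_, ?_, Or.inr rfl, fun r hr hrm => ?_⟩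
      · obtain ⟨m, hm⟩ := he
        exact ⟨m - 1, by omega⟩
      · omega
      · rcases key r hr hrm with ⟨-, h1⟩ | ⟨h1, -⟩
        · exact h1
        · exact absurd he (Nat.not_even_iff_odd.2 h1)
    · refine ⟨n, ho, by omega, Or.inl rfl, fun r hr hrm => ?_⟩
      rcases key r hr hrm with ⟨h1, -⟩ | ⟨-, h1⟩
      · exfalso
        obtain ⟨a, ha⟩ := ho
        obtain ⟨b, hb⟩ := h1
        omega
      · exact h1
  have hjle : j ≤ n := by omega
  have hv : ∀ s k : ℕ, s.Prime → s ∣ mm q → s ^ k ∣ Nat.card (Cfsg.POmega F ⇑Q) → s ^ k ∣ u ^ j - 1 := by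
    intro s k hs hsm hk
    have hN := ncf hQ hn h hs hsm
    have h1 := hN.pow_dvd hn hcard hk
    have hj := hR s hs hsm
    obtain ⟨x1, -, x3⟩ := hN.excl hu.le (by omega)
    rcases hjn with rfl | rfl
    · exact pow_dvd_left hs h1 (fun h2 => ((Nat.Prime.dvd_mul hs).1 h2).elim (x1 hj).2 (x1 hj).1)
    · exact pow_dvd_right hs (pow_dvd_right hs h1 (fun h2 => (x1 h2).1 hj)) (x3 hj)
  -- the torus
  have hE : Elt F n 1 (u ^ j - 1) := by
    have h1 : Elt F j 1 (u ^ j - 1) := elt_tor_plus (by omega) dvd_rfl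
    rcases hjn with rfl | rfl
    · exact h1
    · exact h1.extend (by omega) (Or.inl rfl) (Or.inl rfl)
  obtain ⟨s, c, hc, hs⟩ := exists_of_elt hQ (by omega) hE
  have hsm := eq_of_torus h hs hr₀ hrm₀ (hR r₀ hr₀ hrm₀) hv
  rw [hsm] at hs
  have huj : 1 ≤ u ^ j := Nat.one_le_pow _ _ (by omega)
  rcases Nat.even_or_odd u with he | ho
  · have h1 : 8 ∣ u ^ j := by
      have h2 : 2 ^ 3 ∣ u ^ 3 := pow_dvd_pow_of_dvd he.two_dvd 3
      exact h2.trans (pow_dvd_pow u hj3)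
    interval_cases c <;> (clear * - h8 h1 hs huj; omega)
  · -- `u - 1` is a power of two
    have hprimes : ∀ r, r.Prime → r ∣ u - 1 → r = 2 := by
      intro r hr hrd
      by_contra hr2
      have h1 : r ∣ u ^ j - 1 := hrd.trans (by simpa only [_root_.one_pow] using Nat.sub_dvd_pow_sub_pow u 1 j)
      rw [hs] at h1
      have hrm : r ∣ mm q := ((Nat.Prime.dvd_mul hr).1 h1).resolve_left fun h2 =>
        hr2 ((Nat.prime_dvd_prime_iff_eq hr Nat.prime_two).1 (hr.dvd_of_dvd_pow h2))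
      exact (ncf hQ hn h hr hrm).sub 1 le_rfl (by omega) (by rwa [pow_one])
    obtain ⟨b, hb, hub⟩ := pow_two_of (w := u - 1) (c := c) (m := mm q) (by omega) hprimes (by
      rw [← hs]
      simpa only [_root_.one_pow] using Nat.sub_dvd_pow_sub_pow u 1 j) (mm_odd hodd)
    -- the contradiction from the other torus
    have fin : ∀ N : ℕ, 2 * N = u ^ (j - 1) + 1 → InL p q N := by
      intro N hN
      have h1 : Elt F (j - 1) (-1) (u ^ (j - 1) + 1) := elt_tor_minus (by omega) dvd_rfl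
      obtain ⟨s', hs'⟩ := exists_of_eltP hQ (by omega) (eltP_extend h1 (m := n) (by omega) (Or.inr rfl) (Or.inl rfl))
      have h2 : (u ^ (j - 1) + 1).gcd 2 = 2 := Nat.gcd_eq_right ⟨N, hN.symm⟩
      rw [h2, ← hN, Nat.mul_div_cancel_left _ (by norm_num)] at hs'
      rw [← hs']
      exact h.om s'
    have hpar : ∃ N, 2 * N = u ^ (j - 1) + 1 := by
      obtain ⟨a, ha⟩ := (ho.pow : Odd (u ^ (j - 1)))
      exact ⟨a + 1, by omega⟩
    obtain ⟨N, hN⟩ := hpar
    have hb2 : b = 1 ∨ b = 2 := by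
      have hb0 : b ≠ 0 := by
        rintro rfl
        rw [pow_zero] at hub
        obtain ⟨a, ha⟩ := ho
        omega
      omega
    rcases hb2 with rfl | rfl
    · have hu3 : u = 3 := by omega
      rw [hu3] at hs hN
      have h5 := pow_mod_three hjo
      have h6 : 3 ^ j = q ^ 4 + 2 := by
        interval_cases c
        all_goals (clear * - hm2 hs h8 h5; omega)
      exact p3 h.prime h.ne_two h.dvd hodd hjo h6 hN (fin N (by rw [hu3]; exact hN))
    · have hu5 : u = 5 := by omega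
      rw [hu5] at hs hN
      have h5 := pow_mod_five hjo
      have h6 : 5 ^ j = 2 * q ^ 4 + 3 := by
        interval_cases c <;> (clear * - hm2 hs; omega)
      exact p5 h.prime h.ne_two h.dvd hodd (by omega) h6 hN (fin N (by rw [hu5]; exact hN))

end plus

section minus

variable {F : Type*} [Field F] [Finite F] {ι : Type} [Fintype ι] [DecidableEq ι] {Q : QuadraticForm F (ι → F)}
  {n p q : ℕ}

/-- `(2 ^ (n - 1) + 1) (2 ^ n + 1) = (q⁴ + 1) / 2` is impossible. -/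
theorem mix_two {q t : ℕ} (h : 2 * ((t + 1) * (2 * t + 1)) = q ^ 4 + 1) (ht : 0 < t) : False := by
  have h1 : q ^ 4 = (q ^ 2) ^ 2 := by rw [← pow_mul]
  rw [h1] at h
  have h2 : 2 * t + 1 < q ^ 2 := by
    by_contra hcon
    have h3 : (q ^ 2) ^ 2 ≤ (2 * t + 1) ^ 2 := Nat.pow_le_pow_left (Nat.le_of_not_lt hcon) 2
    linarith only [h, ht, h3]
  have h4 : q ^ 2 < 2 * t + 2 := by
    by_contra hcon
    have h3 : (2 * t + 2) ^ 2 ≤ (q ^ 2) ^ 2 := Nat.pow_le_pow_left (Nat.le_of_not_lt hcon) 2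
    linarith only [h, h3]
  omega

/-- `(3 ^ (n - 1) + 1) (3 ^ n + 1) = 4 (q⁴ + 1)` is impossible. -/
theorem mix_three {q t : ℕ} (h : (t + 1) * (3 * t + 1) = 4 * (q ^ 4 + 1)) (ht : 9 ∣ t) : False := by
  obtain ⟨a, rfl⟩ := ht
  have h1 : (q ^ 4 * 4) % 9 = 6 := by
    have h2 : (9 * a + 1) * (3 * (9 * a) + 1) = 9 * (27 * a ^ 2 + 4 * a) + 1 := by ring
    (solve | lia | omega)
  have h3 : 3 ∣ q ^ 4 := by omega
  have h4 : 3 ∣ q := Nat.prime_three.dvd_of_dvd_pow h3
  obtain ⟨b, rfl⟩ := h4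
  have h5 : (3 * b) ^ 4 = 9 * (9 * b ^ 4) := by ring
  omega

theorem minus_main (hQ : Sg Q n (-1)) (hn : 4 ≤ n) (hpp : ∀ r s, r.Prime → s.Prime → r ∣ Nat.card F →
      s ∣ Nat.card F → r = s) {g : ℕ}
    (hcard : g * Nat.card (Cfsg.POmega F ⇑Q) = Nat.card F ^ (n * (n - 1)) * (Nat.card F ^ n + 1) *
      ∏ i ∈ Finset.range (n - 1), (Nat.card F ^ (2 * (i + 1)) - 1))
    (h : T4 p q (Cfsg.POmega F ⇑Q)) : Nat.card F ^ n = q ^ 4 ∧ Even n := by
  have hu : 1 < Nat.card F := Finite.one_lt_card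
  set u := Nat.card F with hudef
  have hodd := h.odd
  have h8 := mm_mod hodd
  have hm2 := two_mm hodd
  have h3q := h.three_le
  obtain ⟨r₀, hr₀, hrm₀⟩ := exists_prime_mm h3q
  have hR : ∀ r, r.Prime → r ∣ mm q → (r ∣ u ^ (n - 1) + 1 ∧ u ≤ 3) ∨ r ∣ u ^ n + 1 := by
    intro r hr hrm
    rcases minus_cases hQ hn hcard hr (ne_two_of_dvd hodd hrm) (hrm.trans h.dvd_card) with h1 | h1 | h1
    · exact absurd h1.symm (h.not_conn hrm)
    · exact Or.inl h1
    · exact Or.inr h1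
  have hvA : ∀ s k : ℕ, s.Prime → s ∣ mm q → s ∣ u ^ (n - 1) + 1 → s ^ k ∣ Nat.card (Cfsg.POmega F ⇑Q) →
      s ^ k ∣ u ^ (n - 1) + 1 := by
    intro s k hs hsm hA hk
    have hN := ncf hQ hn h hs hsm
    have h1 := hN.pow_dvd hn hcard hk
    obtain ⟨-, x2, x3⟩ := hN.excl hu.le (by omega)
    exact pow_dvd_left hs (pow_dvd_right hs h1 (fun h2 => (x2 h2).2 hA)) (fun h2 => x3 h2 hA)
  have hvB : ∀ s k : ℕ, s.Prime → s ∣ mm q → s ∣ u ^ n + 1 → s ^ k ∣ Nat.card (Cfsg.POmega F ⇑Q) →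
      s ^ k ∣ u ^ n + 1 := by
    intro s k hs hsm hB hk
    have hN := ncf hQ hn h hs hsm
    have h1 := hN.pow_dvd hn hcard hk
    obtain ⟨-, x2, -⟩ := hN.excl hu.le (by omega)
    exact pow_dvd_left hs h1 (fun h2 => ((Nat.Prime.dvd_mul hs).1 h2).elim (x2 hB).2 (x2 hB).1)
  -- the two tori
  have hEA : Elt F (n - 1) (-1) (u ^ (n - 1) + 1) := elt_tor_minus (by omega) dvd_rfl
  obtain ⟨sA, hsA⟩ := exists_of_eltP hQ (by omega) (eltP_extend hEA (m := n) (by omega) (Or.inr rfl) (Or.inr rfl))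
  obtain ⟨sB, c, hc, hsB⟩ := exists_of_elt hQ (by omega) (elt_tor_minus (F := F) (k := n) (by omega) dvd_rfl)
  have hmodd := mm_odd hodd
  -- `A` odd or not
  have hA2 : ∃ d, d ≤ 1 ∧ u ^ (n - 1) + 1 = 2 ^ d * orderOf sA := by
    rcases Nat.even_or_odd (u ^ (n - 1) + 1) with he | ho
    · have h1 : (u ^ (n - 1) + 1).gcd 2 = 2 := Nat.gcd_eq_right he.two_dvd
      rw [h1] at hsA
      refine ⟨1, le_rfl, ?_⟩
      rw [hsA, pow_one]
      exact (Nat.mul_div_cancel' he.two_dvd).symm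
    · have h1 : (u ^ (n - 1) + 1).gcd 2 = 1 := Nat.coprime_two_right.2 ho
      rw [h1, Nat.div_one] at hsA
      exact ⟨0, by norm_num, by rw [hsA, pow_zero, one_mul]⟩
  obtain ⟨d, hd, hsA'⟩ := hA2
  have podd : ∀ m, u = 3 → Odd m → 3 ^ m % 8 = 3 := fun m _ hm => pow_mod_three hm
  have peven : ∀ m, Even m → 3 ^ m % 8 = 1 := by
    rintro m ⟨a, rfl⟩
    rw [← two_mul, pow_mul, Nat.pow_mod]
    norm_num
  by_cases hB : ∀ r, r.Prime → r ∣ mm q → r ∣ u ^ n + 1
  · -- all primes divide `u ^ n + 1`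
    have hsm := eq_of_torus h hsB hr₀ hrm₀ (hB r₀ hr₀ hrm₀) (fun s k hs hsm => hvB s k hs hsm (hB s hs hsm))
    change u ^ n + 1 = 2 ^ c * orderOf sB at hsB
    rw [hsm] at hsB
    have hwd : ∀ w, w ≠ 0 → w ∣ u ^ n + 1 → (∀ r, r.Prime → r ∣ mm q → ¬ r ∣ w) → ∃ b, b ≤ c ∧ w = 2 ^ b := by
      intro w hw hwd hwr
      refine pow_two_of hw (fun r hr hrd => ?_) (by rw [← hsB]; exact hwd) hmodd
      by_contra hr2
      have h1 := hrd.trans hwd
      rw [hsB] at h1
      exact hwr r hr (((Nat.Prime.dvd_mul hr).1 h1).resolve_left fun h2 =>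
        hr2 ((Nat.prime_dvd_prime_iff_eq hr Nat.prime_two).1 (hr.dvd_of_dvd_pow h2))) hrd
    have hadd : Odd n → ∃ b, b ≤ c ∧ u + 1 = 2 ^ b := by
      intro hno
      refine hwd (u + 1) (by omega) (by simpa using hno.nat_add_dvd_pow_add_pow u 1) (fun r hr hrm hrd => ?_)
      exact (ncf hQ hn h hr hrm).add 1 le_rfl (by omega) (by rwa [pow_one])
    rcases Nat.even_or_odd u with he | ho
    · exfalso
      have h1 : Even (u ^ n) := he.pow_of_ne_zero (by omega)
      have hc0 : c = 0 := by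
        obtain ⟨a, ha⟩ := h1
        obtain ⟨b, hb⟩ := hmodd
        interval_cases c <;> (clear * - ha hsB; omega)
      subst hc0
      exact not_even_pow hodd h3q (fun r hr hrd => hpp r 2 hr Nat.prime_two hrd he.two_dvd) (t := n) (by (clear * - hm2 hsB; omega))
    · have h1 : Odd (u ^ n) := ho.pow
      have hc12 : c = 1 ∨ c = 2 := by
        obtain ⟨a, ha⟩ := h1
        have : c ≠ 0 := by
          rintro rfl
          obtain ⟨b, hb⟩ := hmodd
          omega
        omega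
      rcases hc12 with rfl | rfl
      · refine ⟨by omega, ?_⟩
        rw [← Nat.not_odd_iff_even]
        intro hno
        obtain ⟨b, hb, hub⟩ := hadd hno
        interval_cases b <;> omega
      · exfalso
        have hno : Odd n := by
          rw [← Nat.not_even_iff_odd]
          rintro ⟨a, ha⟩
          have h2 : (u ^ 2) % 4 = 1 := by
            obtain ⟨x, hx⟩ := ho
            rw [hx]
            have : (2 * x + 1) ^ 2 = 4 * (x ^ 2 + x) + 1 := by ring
            omega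
          have h3 : u ^ n % 4 = 1 := by
            rw [ha, ← two_mul, pow_mul, Nat.pow_mod, h2]
            norm_num
          omega
        obtain ⟨b, hb, hub⟩ := hadd hno
        have hu3 : u = 3 := by
          interval_cases b <;> omega
        rw [hu3] at hsB hsA'
        have h2 : 3 ^ n = 2 * q ^ 4 + 1 := by (clear * - hm2 hsB; omega)
        have h4 : 3 ^ (n - 1) % 8 = 1 := peven _ (by
          obtain ⟨a, ha⟩ := hno
          exact ⟨a, by omega⟩)
        have hd1 : d = 1 := by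
          by_contra hne
          have hd0 : d = 0 := by omega
          subst hd0
          rw [hsA, hu3] at hsA'
          have h5 : (3 ^ (n - 1) + 1).gcd 2 = 2 := Nat.gcd_eq_right (by omega)
          rw [h5] at hsA'
          omega
        subst hd1
        exact m1 h.prime h.ne_two h.dvd hodd (by omega) h2 (N := orderOf sA) (by omega) (h.om sA)
  · -- some prime divides `u ^ (n - 1) + 1`, and `u ≤ 3`
    exfalso
    push Not at hB
    obtain ⟨r₁, hr₁, hrm₁, hr₁B⟩ := hB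
    obtain ⟨hr₁A, hu3⟩ := (hR r₁ hr₁ hrm₁).resolve_right hr₁B
    have two_of : ∀ {r t : ℕ}, r.Prime → r ∣ mm q → ¬ r ∣ 2 ^ t := fun hr hrm h1 =>
      ne_two_of_dvd hodd hrm ((Nat.prime_dvd_prime_iff_eq hr Nat.prime_two).1 (hr.dvd_of_dvd_pow h1))
    have hAm : orderOf sA ∣ mm q := by
      refine h.iso hr₁ hrm₁ ?_
      rw [hsA'] at hr₁A
      exact ((Nat.Prime.dvd_mul hr₁).1 hr₁A).resolve_left (two_of hr₁ hrm₁)
    have hAodd : Odd (orderOf sA) := Odd.of_dvd_nat hmodd hAm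
    by_cases hA : ∀ r, r.Prime → r ∣ mm q → r ∣ u ^ (n - 1) + 1
    · have hsm := eq_of_torus h hsA' hr₀ hrm₀ (hA r₀ hr₀ hrm₀) (fun s k hs hsm => hvA s k hs hsm (hA s hs hsm))
      rw [hsm] at hsA'
      obtain hu2 | hu3 : u = 2 ∨ u = 3 := by omega
      · have h1 : Even (u ^ (n - 1)) := by
          rw [hu2]
          exact even_two.pow_of_ne_zero (by omega)
        have hd0 : d = 0 := by
          obtain ⟨a, ha⟩ := h1
          interval_cases d <;> omega
        subst hd0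
        exact not_even_pow hodd h3q (fun r hr hrd => hpp r 2 hr Nat.prime_two hrd (by rw [hu2]))
          (t := n - 1) (by (clear * - hm2 hsA'; omega))
      · rw [hu3] at hsA'
        have h1 : Odd (3 ^ (n - 1)) := Odd.pow (by decide)
        have hd1 : d = 1 := by
          obtain ⟨a, ha⟩ := h1
          interval_cases d <;> omega
        subst hd1
        have hne : Even (n - 1) := by
          rw [← Nat.not_odd_iff_even]
          intro hno
          have := pow_mod_three hno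
          omega
        have hno : Odd n := by
          obtain ⟨a, ha⟩ := hne
          exact ⟨a, by omega⟩
        have h2 : 3 ^ (n - 1) = q ^ 4 := by (clear * - hm2 hsA'; omega)
        change u ^ n + 1 = 2 ^ c * orderOf sB at hsB
        rw [hu3] at hsB
        have h4 := pow_mod_three hno
        obtain ⟨N, hN⟩ : ∃ N, 4 * N = 3 ^ n + 1 := ⟨(3 ^ n + 1) / 4, by omega⟩
        refine m2 h.prime h.ne_two h.dvd hodd (by omega) h2 hN ((h.om sB).dvd ?_)
        have h5 : 4 * N = 2 ^ c * orderOf sB := by (clear * - hsB hN; omega)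
        interval_cases c
        · exact ⟨4, by omega⟩
        · exact ⟨2, by omega⟩
        · exact ⟨1, by omega⟩
    · push Not at hA
      obtain ⟨r₂, hr₂, hrm₂, hr₂A⟩ := hA
      have hr₂B : r₂ ∣ u ^ n + 1 := (hR r₂ hr₂ hrm₂).resolve_left fun h1 => hr₂A h1.1
      change u ^ n + 1 = 2 ^ c * orderOf sB at hsB
      have hBm : orderOf sB ∣ mm q := by
        refine h.iso hr₂ hrm₂ ?_
        rw [hsB] at hr₂B
        exact ((Nat.Prime.dvd_mul hr₂).1 hr₂B).resolve_left (two_of hr₂ hrm₂)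
      have hBodd : Odd (orderOf sB) := Odd.of_dvd_nat hmodd hBm
      have hcop : Nat.Coprime (orderOf sA) (orderOf sB) := by
        rw [Nat.coprime_iff_gcd_eq_one]
        by_contra hne
        obtain ⟨t, ht, htd⟩ := Nat.exists_prime_and_dvd hne
        have ht1 := htd.trans (Nat.gcd_dvd_left _ _)
        have ht2 := htd.trans (Nat.gcd_dvd_right _ _)
        have htm := ht1.trans hAm
        obtain ⟨-, x2, -⟩ := (ncf hQ hn h ht htm).excl hu.le (by omega)
        refine (x2 ?_).2 ?_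
        · change t ∣ u ^ n + 1
          rw [hsB]
          exact ht2.mul_left _
        · change t ∣ u ^ (n - 1) + 1
          rw [hsA']
          exact ht1.mul_left _
      have hm0 : mm q ≠ 0 := by omega
      have hmul : mm q = orderOf sA * orderOf sB := by
        apply Nat.dvd_antisymm
        · rw [← Nat.factorization_prime_le_iff_dvd hm0 (Nat.mul_ne_zero hAodd.pos.ne' hBodd.pos.ne')]
          intro t ht
          by_cases htm : t ∣ mm q
          · have h1 : t ^ (mm q).factorization t ∣ mm q := Nat.ordProj_dvd _ _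
            rw [← ht.pow_dvd_iff_le_factorization (Nat.mul_ne_zero hAodd.pos.ne' hBodd.pos.ne')]
            rcases hR t ht htm with ⟨h2, -⟩ | h2
            · have h3 := hvA t _ ht htm h2 (h1.trans h.dvd_card)
              rw [hsA'] at h3
              exact (pow_dvd_right ht h3 (two_of ht htm)).mul_right _
            · have h3 := hvB t _ ht htm h2 (h1.trans h.dvd_card)
              rw [hsB] at h3
              exact (pow_dvd_right ht h3 (two_of ht htm)).mul_left _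
          · rw [Nat.factorization_eq_zero_of_not_dvd htm]
            exact Nat.zero_le _
        · exact hcop.mul_dvd_of_dvd_of_dvd hAm hBm
      have hpn := pow_pred (a := u) (n := n) (by omega)
      obtain hu2 | hu3 : u = 2 ∨ u = 3 := by omega
      · rw [hu2] at hsA' hsB hpn
        have h1 : Even (2 ^ (n - 1)) := even_two.pow_of_ne_zero (by omega)
        have h2 : Even (2 ^ n) := even_two.pow_of_ne_zero (by omega)
        have hd0 : d = 0 := by
          obtain ⟨a, ha⟩ := h1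
          obtain ⟨b, hb⟩ := hAodd
          interval_cases d <;> omega
        have hc0 : c = 0 := by
          obtain ⟨a, ha⟩ := h2
          obtain ⟨b, hb⟩ := hBodd
          interval_cases c <;> (clear * - ha hsB; omega)
        subst hd0 hc0
        rw [pow_zero, one_mul] at hsA' hsB
        refine mix_two (q := q) (t := 2 ^ (n - 1)) ?_ (by positivity)
        rw [← hpn, hsA', hsB, ← hmul, hm2]
      · rw [hu3] at hsA' hsB hpn
        have h1 : Odd (3 ^ (n - 1)) := Odd.pow (by decide)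
        have hd1 : d = 1 := by
          obtain ⟨a, ha⟩ := h1
          obtain ⟨b, hb⟩ := hAodd
          interval_cases d <;> omega
        subst hd1
        have hne : Even (n - 1) := by
          rw [← Nat.not_odd_iff_even]
          intro hno
          have := pow_mod_three hno
          obtain ⟨b, hb⟩ := hAodd
          omega
        have hno : Odd n := by
          obtain ⟨a, ha⟩ := hne
          exact ⟨a, by omega⟩
        have h4 := pow_mod_three hno
        have hc2 : c = 2 := by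
          obtain ⟨b, hb⟩ := hBodd
          interval_cases c <;> (clear * - h4 hb hsB; omega)
        subst hc2
        refine mix_three (q := q) (t := 3 ^ (n - 1)) ?_ ?_
        · rw [← hpn, hsA', hsB]
          calc 2 ^ 1 * orderOf sA * (2 ^ 2 * orderOf sB) = 4 * (2 * (orderOf sA * orderOf sB)) := by ring
            _ = 4 * (q ^ 4 + 1) := by rw [← hmul, hm2]
        · exact pow_dvd_pow 3 (show 2 ≤ n - 1 by omega)

end minus

/-! ### The final step -/

section final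

/-- A prime element order in the list. -/
theorem inL_prime {p q r : ℕ} (hp : p.Prime) (hq : Odd q) (hr : r.Prime) (hrp : r ≠ p) (hr2 : r ≠ 2)
    (h : InL p q r) : r ∣ q ^ 8 - 1 ∨ r ∣ q ^ 6 - 1 := by
  have hq1 : 1 ≤ q := hq.pos
  have e8 : q ^ 8 - 1 = (q ^ 4 + 1) * (q ^ 4 - 1) := by
    have := Nat.sq_sub_sq (q ^ 4) 1
    rw [one_pow, ← pow_mul] at this
    exact this
  have d4 : r ∣ q ^ 4 - 1 → r ∣ q ^ 8 - 1 := fun h => by rw [e8]; exact h.mul_left _
  have d4' : r ∣ q ^ 4 + 1 → r ∣ q ^ 8 - 1 := fun h => by rw [e8]; exact h.mul_right _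
  have d1 : r ∣ q - 1 → r ∣ q ^ 8 - 1 := fun h => d4 (h.trans sub_one_dvd)
  have d1' : r ∣ q + 1 → r ∣ q ^ 8 - 1 := fun h => d4 (h.trans add_one_dvd)
  have d2 : r ∣ q ^ 2 - 1 → r ∣ q ^ 8 - 1 := fun h => d4 (h.trans sq_sub_dvd)
  have e4 : q ^ 4 - 1 = (q ^ 2 + 1) * (q ^ 2 - 1) := by
    have := Nat.sq_sub_sq (q ^ 2) 1
    rw [one_pow, ← pow_mul] at this
    exact this
  have d2' : r ∣ q ^ 2 + 1 → r ∣ q ^ 8 - 1 := fun h => d4 (by rw [e4]; exact h.mul_right _)
  have d3 : r ∣ q ^ 3 - 1 → r ∣ q ^ 6 - 1 := fun h => h.trans cube_sub_dvd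
  have d3' : r ∣ q ^ 3 + 1 → r ∣ q ^ 6 - 1 := fun h => h.trans cube_add_dvd
  have pp : ¬ r ∣ p := fun h => hrp ((Nat.prime_dvd_prime_iff_eq hr hp).1 h)
  have ppk : ∀ k, ¬ r ∣ p ^ k := fun k h => pp (hr.dvd_of_dvd_pow h)
  have hm2 := two_mm hq
  have ev1 : 2 * ((q - 1) / 2) = q - 1 := by
    obtain ⟨k, rfl⟩ := hq
    omega
  have ev2 : 2 * ((q + 1) / 2) = q + 1 := by
    obtain ⟨k, rfl⟩ := hq
    omega
  have ev4 : 2 * ((q ^ 4 - 1) / 2) = q ^ 4 - 1 := by
    have := pow_four_mod hq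
    (clear * - this; omega)
  have half : ∀ {a b : ℕ}, 2 * a = b → r ∣ a → r ∣ b := fun h h' => by rw [← h]; exact h'.mul_left 2
  have mul : ∀ {a b : ℕ}, r ∣ a * b → r ∣ a ∨ r ∣ b := fun h => (Nat.Prime.dvd_mul hr).1 h
  rcases h with h | h | h | h | h | h | h | h | h | ⟨rfl, h | h⟩ | ⟨rfl, h | h⟩ | ⟨rfl, h⟩
  · exact Or.inl (d4' (half hm2 h))
  · exact Or.inl (d4 (half ev4 h))
  · exact (mul h).elim (fun h => Or.inr (d3' h)) fun h => Or.inl (d1 (half ev1 h))
  · exact (mul h).elim (fun h => Or.inr (d3 h)) fun h => Or.inl (d1' (half ev2 h))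
  · exact Or.inr (d3' ((mul h).resolve_left pp))
  · exact Or.inr (d3 ((mul h).resolve_left pp))
  · exact Or.inl ((mul ((mul h).resolve_left pp)).elim d2' fun h => d1' (half ev2 h))
  · exact Or.inl ((mul ((mul h).resolve_left pp)).elim d2' fun h => d1 (half ev1 h))
  · exact Or.inl (d2 ((mul h).resolve_left pp))
  · exact Or.inl (d2' ((mul (show r ∣ 3 ^ 2 * (q ^ 2 + 1) from h)).resolve_left (ppk 2)))
  · exact Or.inl (d2 ((mul (show r ∣ 3 ^ 2 * (q ^ 2 - 1) from h)).resolve_left (ppk 2)))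
  · exact Or.inl (d1' ((mul (show r ∣ 5 ^ 2 * (q + 1) from h)).resolve_left (ppk 2)))
  · exact Or.inl (d1 ((mul (show r ∣ 5 ^ 2 * (q - 1) from h)).resolve_left (ppk 2)))
  · exfalso
    rcases mul (show r ∣ 7 ^ 2 * 2 from h) with h1 | h1
    · exact ppk 2 h1
    · exact hr2 ((Nat.prime_dvd_prime_iff_eq hr Nat.prime_two).1 h1)

/-- **The characteristic case.** If `u ^ n = q⁴`, `n ≥ 4`, and every prime divisor of `u ^ (2 (n - 1)) - 1` is in the
list, then `n = 4` and `u = q`. -/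
theorem final {p q u n : ℕ} (hp : p.Prime) (hp2 : p ≠ 2) (hpow : ∃ f, 1 ≤ f ∧ q = p ^ f) (hn : 4 ≤ n)
    (h : u ^ n = q ^ 4) (hL : ∀ r, r.Prime → r ≠ 2 → r ∣ u ^ (2 * (n - 1)) - 1 → InL p q r) : n = 4 ∧ u = q := by
  obtain ⟨f, hf, rfl⟩ := hpow
  have hodd : Odd (p ^ f) := (hp.odd_of_ne_two hp2).pow
  have hud : u ∣ p ^ (f * 4) := by
    rw [pow_mul, ← h]
    exact dvd_pow_self u (by omega)
  obtain ⟨j, -, rfl⟩ := (Nat.dvd_prime_pow hp).1 hud
  have hj : j * n = f * 4 := by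
    rw [← pow_mul, ← pow_mul] at h
    exact Nat.pow_right_injective hp.two_le h
  have hj0 : 0 < j := Nat.pos_of_ne_zero fun h0 => by
    rw [h0, zero_mul] at hj
    omega
  have hE : 6 ≤ j * (2 * (n - 1)) := by
    calc 6 = 1 * 6 := rfl
      _ ≤ j * (2 * (n - 1)) := Nat.mul_le_mul hj0 (by omega)
  obtain ⟨r, hr, ho⟩ := Lib.Zsigmondy.exists_prime_orderOf (a := p) (n := j * (2 * (n - 1))) hp.two_le (by omega)
    (fun h => by omega) (fun h => hp2 h.1)
  have hpos := hp.two_le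
  have hr0 : ¬ r ∣ p := by
    intro hd
    have h1 : (p : ZMod r) = 0 := (ZMod.natCast_eq_zero_iff _ _).2 hd
    rw [h1] at ho
    have hf' := Fact.mk hr
    rw [orderOf_zero] at ho
    omega
  have hrp : r ≠ p := by
    rintro rfl
    exact hr0 dvd_rfl
  have hlt : j * (2 * (n - 1)) < r := by
    have h1 : orderOf (p : ZMod r) ∣ r - 1 := by
      have hf' := Fact.mk hr
      apply orderOf_dvd_of_pow_eq_one
      apply ZMod.pow_card_sub_one_eq_one
      rwa [Ne, ZMod.natCast_eq_zero_iff]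
    rw [ho] at h1
    have := Nat.le_of_dvd (Nat.sub_pos_of_lt hr.one_lt) h1
    have := hr.one_lt
    omega
  have hr2 : r ≠ 2 := by omega
  have hdvd : ∀ m : ℕ, r ∣ p ^ m - 1 ↔ j * (2 * (n - 1)) ∣ m := fun m => by
    rw [dsub (by omega), ← ho]
    exact orderOf_dvd_iff_pow_eq_one.symm
  have h1 := hL r hr hr2 (by rw [← pow_mul, hdvd])
  have hn4 : n = 4 := by
    rcases inL_prime hp hodd hr hrp hr2 h1 with h2 | h2
    · rw [← pow_mul, hdvd] at h2
      exfalso
      have e : f * 8 = j * (2 * n) := by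
        have : f * 8 = f * 4 * 2 := by ring
        rw [this, ← hj]
        ring
      rw [e] at h2
      have h3 := Nat.dvd_of_mul_dvd_mul_left hj0 h2
      have h4 := Nat.dvd_of_mul_dvd_mul_left (by norm_num : 0 < 2) h3
      have h5 : n - 1 ∣ n - (n - 1) := Nat.dvd_sub h4 dvd_rfl
      have h6 : n - (n - 1) = 1 := by omega
      rw [h6] at h5
      have := Nat.le_of_dvd one_pos h5
      omega
    · rw [← pow_mul, hdvd] at h2
      have h3 : j * (2 * (n - 1)) * 2 ∣ f * 6 * 2 := Nat.mul_dvd_mul_right h2 2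
      have e : f * 6 * 2 = j * (3 * n) := by
        have : f * 6 * 2 = f * 4 * 3 := by ring
        rw [this, ← hj]
        ring
      rw [e, mul_assoc] at h3
      have h4 := Nat.dvd_of_mul_dvd_mul_left hj0 h3
      have := Nat.le_of_dvd (by omega) h4
      omega
  subst hn4
  refine ⟨rfl, ?_⟩
  have : j = f := by omega
  rw [this]

end final

end Cfsg.Agent.H901.TOrth
end

-- part: H104/UpNine
section
/-!
# The orders of the elements of `Ω₉(q)`, `q` odd: upper bounds (helper104)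

* `Up p q N` : the list (finer than `H202.T.InL`: `p (q³ ± 1) / 2` instead of `p (q³ ± 1)`);
* `up` : an isometry of determinant one and trivial spinor sign of a nine-dimensional space has order in the list;
* `up9`, `no9` : the group `PΩ₉(q)`.
-/

set_option autoImplicit false
set_option linter.unusedSectionVars false

namespace Cfsg.Agent.H104.UpNine

open QuadraticMap Module
open Cfsg.Agent.LieClassical.OrthCore Cfsg.Agent.H160.QSpin Cfsg.Agent.H160.QDisc Cfsg.Agent.H160.QSplit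
  Cfsg.Agent.H160.QSemi Cfsg.Agent.H160.QRoots Cfsg.Agent.H160.QChar Cfsg.Agent.H160.QUpper
open Cfsg.Agent.H202.T (mm InL)

/-- the list -/
def Up (p q N : ℕ) : Prop :=
  N ∣ mm q ∨ N ∣ (q ^ 4 - 1) / 2 ∨ N ∣ (q ^ 3 + 1) * ((q - 1) / 2) ∨ N ∣ (q ^ 3 - 1) * ((q + 1) / 2) ∨
    N ∣ p * ((q ^ 3 + 1) / 2) ∨ N ∣ p * ((q ^ 3 - 1) / 2) ∨ N ∣ p * ((q ^ 2 + 1) * ((q + 1) / 2)) ∨
    N ∣ p * ((q ^ 2 + 1) * ((q - 1) / 2)) ∨ N ∣ p * (q ^ 2 - 1) ∨
    (p = 3 ∧ (N ∣ 9 * (q ^ 2 + 1) ∨ N ∣ 9 * (q ^ 2 - 1))) ∨ (p = 5 ∧ (N ∣ 25 * (q + 1) ∨ N ∣ 25 * (q - 1))) ∨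
    (p = 7 ∧ N ∣ 98)

theorem Up.inL {p q N : ℕ} (hq : Odd q) (h : Up p q N) : InL p q N := by
  have hd : ∀ A : ℕ, Even A → ∀ p, N ∣ p * (A / 2) → N ∣ p * A := by
    rintro A ⟨k, rfl⟩ p h
    rw [show (k + k) / 2 = k by omega] at h
    rw [mul_add]
    exact h.add h
  have e1 : Even (q ^ 3 + 1) := Odd.add_one (Odd.pow hq)
  have e2 : Even (q ^ 3 - 1) := Nat.Odd.sub_odd (Odd.pow hq) odd_one
  exact h.imp id (Or.imp id (Or.imp id (Or.imp id (Or.imp (hd _ e1 p) (Or.imp (hd _ e2 p) id)))))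

/-- the list without the numbers `p (q³ ± 1)` -/
theorem Up.not_mul {p q : ℕ} (hq : Odd q) (hp : p.Prime) (hp2 : p ≠ 2) (hpq : p ∣ q) {s : ℕ}
    (hs : s = q ^ 3 + 1 ∨ s = q ^ 3 - 1) : ¬ Up p q (p * s) := by
  have hp3 : 3 ≤ p := by
    have := hp.two_le
    omega
  have hq3 : 3 ≤ q := hp3.trans (Nat.le_of_dvd hq.pos hpq)
  obtain ⟨e, he⟩ := hq
  have he1 : 1 ≤ e := by omega
  have q2 : q ^ 2 = 4 * e ^ 2 + 4 * e + 1 := by rw [he]; ring
  have q3 : q ^ 3 = 8 * e ^ 3 + 12 * e ^ 2 + 6 * e + 1 := by rw [he]; ring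
  have q4 : q ^ 4 = 16 * e ^ 4 + 32 * e ^ 3 + 24 * e ^ 2 + 8 * e + 1 := by rw [he]; ring
  have m3 : q ^ 3 - 1 = 8 * e ^ 3 + 12 * e ^ 2 + 6 * e := by omega
  have hh1 : (q - 1) / 2 = e := by omega
  have hh2 : (q + 1) / 2 = e + 1 := by omega
  have hs1 : q ^ 3 - 1 ≤ s := by (clear * - hs; omega)
  have hs0 : 0 < s := by
    have : 1 ≤ e ^ 3 := Nat.one_le_pow _ _ he1
    omega
  have e3 : e ^ 2 ≤ e ^ 3 := Nat.pow_le_pow_right he1 (by norm_num)
  have e2 : e ≤ e ^ 2 := Nat.le_self_pow (by norm_num) e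
  -- numbers prime to `p`
  have k1 : ∀ a : ℕ, ¬ p ∣ a → ¬ p * s ∣ a := fun a ha h => ha ((Dvd.intro _ rfl).trans h)
  have nd : ∀ a b : ℕ, p ∣ a → p ∣ b → b = a + 1 → False := fun a b ha hb h => by
    rw [h] at hb
    exact hp.one_lt.ne' (Nat.dvd_one.1 ((Nat.dvd_add_right ha).1 hb))
  have dq : ∀ i : ℕ, i ≠ 0 → p ∣ q ^ i := fun i hi => dvd_pow hpq hi
  have p1 : ∀ i : ℕ, i ≠ 0 → ¬ p ∣ q ^ i - 1 := fun i hi h => nd _ _ h (dq i hi) (by
    have : 1 ≤ q ^ i := Nat.one_le_pow _ _ (by omega)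
    omega)
  have p2 : ∀ i : ℕ, i ≠ 0 → ¬ p ∣ q ^ i + 1 := fun i hi h => nd _ _ (dq i hi) h rfl
  have half : ∀ a : ℕ, Even a → ¬ p ∣ a → ¬ p ∣ a / 2 := fun a ha h h' =>
    h (by obtain ⟨b, rfl⟩ := ha; rw [show (b + b) / 2 = b by omega] at h'; exact (h'.add h'))
  have mul : ∀ a b : ℕ, ¬ p ∣ a → ¬ p ∣ b → ¬ p ∣ a * b := fun a b ha hb h => (hp.dvd_mul.1 h).elim ha hb
  have odd4 : Odd (q ^ 4) := Odd.pow ⟨e, he⟩
  have v1 : ¬ p ∣ (q - 1) / 2 := half _ ⟨e, by (clear * - he; omega)⟩ (by simpa only [_root_.pow_one] using p1 1 one_ne_zero)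
  have v2 : ¬ p ∣ (q + 1) / 2 := half _ ⟨e + 1, by omega⟩ (by simpa using p2 1 one_ne_zero)
  -- numbers `p c` with `c < s`
  have k2 : ∀ c : ℕ, 0 < c → c < s → ¬ p * s ∣ p * c := fun c hc hcs h => by
    have := Nat.le_of_dvd hc (Nat.dvd_of_mul_dvd_mul_left hp.pos h)
    omega
  have hsp : ¬ p ∣ s := by
    rcases hs with rfl | rfl
    · exact p2 3 (by norm_num)
    · exact p1 3 (by norm_num)
  have k3 : ∀ a X : ℕ, 0 < X → X < s → ¬ p * s ∣ p ^ a * X := fun a X hX hXs h => by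
    have h1 : s ∣ p ^ a * X := (Dvd.intro_left _ rfl).trans h
    have h2 : Nat.Coprime s (p ^ a) := (Nat.Coprime.pow_left a ((hp.coprime_iff_not_dvd).2 hsp)).symm
    have := Nat.le_of_dvd hX (h2.dvd_of_dvd_mul_left h1)
    omega
  rintro (h | h | h | h | h | h | h | h | h | ⟨h3, h | h⟩ | ⟨h5, h | h⟩ | ⟨h7, h⟩)
  · exact k1 _ (half _ (odd4.add_one) (p2 4 (by norm_num))) h
  · exact k1 _ (half _ (Nat.Odd.sub_odd odd4 odd_one) (p1 4 (by norm_num))) h
  · exact k1 _ (mul _ _ (p2 3 (by norm_num)) v1) h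
  · exact k1 _ (mul _ _ (p1 3 (by norm_num)) v2) h
  · refine k2 _ (by omega) ?_ h
    have : 1 ≤ e ^ 3 := Nat.one_le_pow _ _ he1
    (clear * - q3 hs1 this; omega)
  · refine k2 _ (by (clear * - hq3 m3 hh2; omega)) (by (clear * - hs1 hs0; omega)) h
  · rw [hh2] at h
    refine k2 _ (by positivity) ?_ h
    refine lt_of_lt_of_le ?_ hs1
    rw [m3, q2]
    linarith only [hq3, he, e3, e2]
  · rw [hh1] at h
    refine k2 _ (by positivity) ?_ h
    refine lt_of_lt_of_le ?_ hs1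
    rw [m3, q2]
    linarith only [hq3, he, e3, e2]
  · refine k2 _ (by omega) (by (clear * - q2 m3 hs1 hs0; omega)) h
  · exact k3 2 (q ^ 2 + 1) (by omega) (by omega) (by rw [h3] at h ⊢; exact h)
  · exact k3 2 (q ^ 2 - 1) (by omega) (by (clear * - q2 m3 hs1 hs0; omega)) (by rw [h3] at h ⊢; exact h)
  · exact k3 2 (q + 1) (by omega) (by (clear * - hq3 m3 hh2 hs1; omega)) (by rw [h5] at h ⊢; exact h)
  · exact k3 2 (q - 1) (by omega) (by (clear * - hq3 m3 hh2 hs1; omega)) (by rw [h5] at h ⊢; exact h)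
  · exact k3 2 2 (by omega) (by omega) (by rw [h7] at h ⊢; exact h)

section

variable {F : Type*} [Field F] [Fintype F] [DecidableEq F] {V : Type*} [AddCommGroup V] [Module F V]
  [FiniteDimensional F V] [Finite V] {p : ℕ} [hp : Fact p.Prime] [CharP F p]

/-- splitting off the eigenvalue `-1` -/
theorem split_neg (h2 : (2 : F) ≠ 0) {Q : QuadraticForm F V} (hQ : Nondeg Q) (hV : Even (finrank F V))
    {g : V ≃ₗ[F] V} (hgO : g ∈ O Q) (h1 : ∀ v, g v = v → v = 0) (hm : ¬ ∀ v, g v = -v → v = 0) :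
    ∃ (n₁ n₂ : ℕ) (Q₁ : QuadraticForm F (Fin n₁ → F)) (k₁ : (Fin n₁ → F) ≃ₗ[F] (Fin n₁ → F)),
      n₁ + n₂ = finrank F V ∧ Even n₁ ∧ 2 ≤ n₂ ∧ Nondeg Q₁ ∧ k₁ ∈ O Q₁ ∧ (∀ v, k₁ v = v → v = 0) ∧
      (∀ v, k₁ v = -v → v = 0) ∧ (∀ c N, n₂ ≤ p ^ c + 1 → 2 * p ^ c ∣ N → k₁ ^ N = 1 → g ^ N = 1) := by
  have hkO : LinearEquiv.neg F * g ∈ O Q := (O Q).mul_mem (neg_mem_O Q) hgO
  obtain ⟨n₁, n₂, Q₁, Q₂, g₁, g₂, e, he, hk, hno, hnil⟩ := split hkO
  have hgeq : g = cj e (pr (LinearEquiv.neg F * g₁) (LinearEquiv.neg F * g₂)) := by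
    have h3 : LinearEquiv.neg F * (LinearEquiv.neg F * g) = g := by
      rw [← mul_assoc, ← pow_two, Cfsg.Agent.H160.QUpper.neg_pow_two, one_mul]
    rw [← h3, hk, pr_mul, cj_mul, pr_neg, cj_neg]
  obtain ⟨hQ₁, hQ₂⟩ := nondeg_of_prod (he.symm.nondeg hQ)
  have hprO : pr g₁ g₂ ∈ O (Q₁.prod Q₂) := by
    have := cj_mem_O he.symm hkO
    rwa [hk, cj_symm_cj] at this
  obtain ⟨hg₁, hg₂⟩ := pr_mem_O_iff.1 hprO
  have hdim : n₁ + n₂ = finrank F V := by
    have := e.finrank_eq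
    rw [← this]
    simp only [_root_.Module.finrank_prod, _root_.Module.finrank_fintype_fun_eq_card, _root_.Fintype.card_fin, _root_.Nat.add_left_cancel_iff]
  obtain ⟨k₁, hk₁⟩ : ∃ k, k = LinearEquiv.neg F * g₁ := ⟨_, rfl⟩
  obtain ⟨k₂, hk₂⟩ : ∃ k, k = LinearEquiv.neg F * g₂ := ⟨_, rfl⟩
  rw [← hk₁, ← hk₂] at hgeq
  have hk₁O : k₁ ∈ O Q₁ := by rw [hk₁]; exact (O Q₁).mul_mem (neg_mem_O Q₁) hg₁
  have hk1no : ∀ v, k₁ v = v → v = 0 := by
    intro x hx
    have h3 : g (e (x, 0)) = e (x, 0) := by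
      conv_lhs => rw [hgeq, cj_apply', pr_apply]
      simp only [map_zero, hx]
    have h4 := h1 _ h3
    rw [e.map_eq_zero_iff] at h4
    exact congrArg Prod.fst h4
  have hk1nm : ∀ v, k₁ v = -v → v = 0 := by
    intro x hx
    apply hno
    have h3 : k₁ x = - (g₁ x) := by rw [hk₁]; rfl
    rw [h3] at hx
    exact neg_injective hx
  -- parity
  have hm1F : (-1 : F) ≠ 1 := by
    intro h3
    apply h2
    have : (2 : F) = 1 - (-1) := by norm_num
    rw [this, h3, sub_self]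
  have hpar : (-1 : F) ^ n₁ = 1 := by
    have h3 := det_of_no_one hQ₁ hk₁O hk1no
    have h4 := det_of_no_one hQ₁ hg₁ hno
    have h5 : en k₁ = (-1 : F) • en g₁ := by
      apply LinearMap.ext
      intro x
      rw [hk₁]
      show -(g₁ x) = (-1 : F) • (g₁ x)
      rw [neg_one_smul]
    rw [h5, LinearMap.det_smul, h4] at h3
    simp only [finrank_fintype_fun_eq_card, Fintype.card_fin] at h3
    have h6 : (-1 : F) ^ n₁ * (-1) ^ n₁ = 1 := by rw [← mul_pow]; norm_num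
    rw [h6] at h3
    exact h3.symm
  have heven : Even n₁ := by
    by_contra hodd
    rw [Nat.not_even_iff_odd] at hodd
    rw [hodd.neg_one_pow] at hpar
    exact hm1F hpar
  have hev2 : Even n₂ := by
    rw [← hdim] at hV
    exact (Nat.even_add.1 hV).1 heven
  have hn20 : n₂ ≠ 0 := by
    intro hn2
    apply hm
    intro v hv
    obtain ⟨⟨x, y⟩, rfl⟩ := e.surjective v
    have hy : y = 0 := by
      subst hn2
      ext i
      exact i.elim0
    subst hy
    rw [hgeq, cj_apply', pr_apply, ← map_neg] at hv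
    have h3 := congrArg Prod.fst (e.injective hv)
    have h4 : x = 0 := hk1nm x h3
    rw [h4]
    exact map_zero e
  have hn2 : 2 ≤ n₂ := by
    obtain ⟨t, ht⟩ := hev2
    omega
  refine ⟨n₁, n₂, Q₁, k₁, hdim, heven, hn2, hQ₁, hk₁O, hk1no, hk1nm, ?_⟩
  intro c N hc hd hN
  obtain ⟨m, hm2⟩ : ∃ m, n₂ = m + 1 := ⟨n₂ - 1, by omega⟩
  have hmo : Odd m := by
    obtain ⟨t, ht⟩ := hev2
    exact ⟨t - 1, by omega⟩
  have hnil' : (en g₂ - 1) ^ m = 0 := by
    refine unip_even h2 hQ₂ hg₂ (by simp [hm2]) hmo ?_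
    rw [← hm2]
    exact hnil
  have h8 : g₂ ^ (p ^ c) = 1 := unip_pow hnil' (by omega)
  have h9 : k₂ ^ (2 * p ^ c) = 1 := by
    rw [hk₂]
    exact neg_mul_pow h8
  rw [hgeq, ← cj_pow, pr_pow, hN, pow_dvd_one h9 hd, pr_one, cj_one]

/-- the decomposition of an isometry of odd dimension -/
theorem dec (h2 : (2 : F) ≠ 0) {Q : QuadraticForm F V} (hQ : Nondeg Q) {g : V ≃ₗ[F] V} (hg : El Q 1 g) :
    ∃ (n₀ n₁ n₂ : ℕ) (Q₀ : QuadraticForm F (Fin n₀ → F)) (k : (Fin n₀ → F) ≃ₗ[F] (Fin n₀ → F)),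
      n₀ + n₁ + n₂ = finrank F V ∧ Even n₀ ∧ Even n₁ ∧ Nondeg Q₀ ∧ k ∈ O Q₀ ∧ (∀ v, k v = v → v = 0) ∧
      (∀ v, k v = -v → v = 0) ∧
      (∀ c N, n₁ ≤ p ^ c + 1 → n₂ ≤ p ^ c → 2 * p ^ c ∣ N → k ^ N = 1 → orderOf g ∣ N) ∧
      (n₁ = 0 → El Q₀ 1 k ∧ ∀ c N, n₂ ≤ p ^ c → p ^ c ∣ N → k ^ N = 1 → orderOf g ∣ N) := by
  obtain ⟨n₁, n₂, Q₁, Q₂, g₁, g₂, b, hdim, hQ₁, hQ₂, -, hg₁, hg₂, hord, hno, hnil, heven, hb, -⟩ :=
    Cfsg.Agent.H160.QMain.split_el (p := p) h2 hQ hg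
  have hg2 : ∀ c N, n₂ ≤ p ^ c → p ^ c ∣ N → g₂ ^ N = 1 := fun c N hc hd =>
    pow_dvd_one (unip_pow (p := p) hnil hc) hd
  have hall : ∀ N, g₁ ^ N = 1 → g₂ ^ N = 1 → orderOf g ∣ N := fun N h3 h4 => by
    rw [hord]
    exact Nat.lcm_dvd (orderOf_dvd_of_pow_eq_one h3) (orderOf_dvd_of_pow_eq_one h4)
  by_cases hm1 : ∀ v, g₁ v = -v → v = 0
  · refine ⟨n₁, 0, n₂, Q₁, g₁, by omega, heven, ⟨0, rfl⟩, hQ₁, hg₁.1, hno, hm1, ?_, fun _ => ⟨hg₁, ?_⟩⟩
    · intro c N _ h4 h5 h6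
      exact hall N h6 (hg2 c N h4 ((Dvd.intro_left 2 rfl).trans h5))
    · intro c N h4 h5 h6
      exact hall N h6 (hg2 c N h4 h5)
  · obtain ⟨m₀, m₁, Q₀, k, a1, a2, a3, a4, a5, a6, a7, a8⟩ :=
      split_neg (p := p) h2 hQ₁ (by simpa only [_root_.Module.finrank_fintype_fun_eq_card, _root_.Fintype.card_fin] using heven) hg₁.1 hno hm1
    simp only [finrank_fintype_fun_eq_card, Fintype.card_fin] at a1
    have hev1 : Even m₁ := by
      rw [← a1] at heven
      exact (Nat.even_add.1 heven).1 a2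
    refine ⟨m₀, m₁, n₂, Q₀, k, by omega, a2, hev1, a4, a5, a6, a7, ?_, fun h0 => by omega⟩
    intro c N h3 h4 h5 h6
    exact hall N (a8 c N h3 h5 h6) (hg2 c N h4 ((Dvd.intro_left 2 rfl).trans h5))

/-- **Upper bounds for the orders.** -/
theorem up (h2 : (2 : F) ≠ 0) {Q : QuadraticForm F V} (hQ : Nondeg Q) (hV : finrank F V = 9)
    {g : V ≃ₗ[F] V} (hg : El Q 1 g) : Up p (Fintype.card F) (orderOf g) := by
  classical
  have hpp := hp.out
  have hp2 : p ≠ 2 := by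
    intro h
    exact Cfsg.Agent.H160.QMain.not_dvd_two (F := F) (p := p) h2 (by rw [h])
  have hp3 : 3 ≤ p := by
    have := hpp.two_le
    omega
  obtain ⟨n₀, n₁, n₂, Q₀, k, hsum, ev0, ev1, hQ₀, hkO, hno, hnm, hall, hzero⟩ := dec (p := p) h2 hQ hg
  rw [hV] at hsum
  obtain ⟨e, he⟩ := card_odd_eq (F := F) h2
  have hq0 : 0 < Fintype.card F := Fintype.card_pos
  have hInv := inv_rts hQ₀ hkO hno hnm
  have hcard := card_rts (en k)
  simp only [finrank_fintype_fun_eq_card, Fintype.card_fin] at hcard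
  have hex : ∀ {M N c : ℕ}, Bd (rts (en k)) M N → M ≤ p ^ c → k ^ (N * p ^ c) = 1 := by
    intro M N c hB hc
    apply en_inj
    rw [en_pow]
    exact pow_eq_one_of_bd hB hc
  set q := Fintype.card F with hq
  have hfin : ∀ {M E : ℕ} (c : ℕ), Bd (rts (en k)) M E → M ≤ p ^ c → 2 ∣ E → n₁ ≤ p ^ c + 1 → n₂ ≤ p ^ c →
      orderOf g ∣ E * p ^ c := fun c hB hM hE h3 h4 =>
    hall c _ h3 h4 (Nat.mul_dvd_mul_right hE _) (hex hB hM)
  have q2 : q ^ 2 + 1 = 2 * (2 * e ^ 2 + 2 * e + 1) := QEnumB.sq_eq he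
  have ev2p : 2 ∣ q ^ 2 + 1 := ⟨_, q2⟩
  have ev2m : 2 ∣ q ^ 2 - 1 := ⟨2 * e ^ 2 + 2 * e, by omega⟩
  have ev1p : 2 ∣ q + 1 := ⟨e + 1, by omega⟩
  have ev1m : 2 ∣ q - 1 := ⟨e, by (clear * - he; omega)⟩
  have q3 : q ^ 3 = 8 * e ^ 3 + 12 * e ^ 2 + 6 * e + 1 := by rw [he]; ring
  obtain ⟨t0, ht0⟩ := ev0
  obtain ⟨t1, ht1⟩ := ev1
  have hp5 : p = 3 ∨ 5 ≤ p := by
    rcases (by omega : p = 3 ∨ p = 4 ∨ 5 ≤ p) with h | h | h
    · exact Or.inl h
    · exfalso; rw [h] at hpp; exact absurd hpp (by norm_num)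
    · exact Or.inr h
  have hp7 : 5 ≤ p → p = 5 ∨ 7 ≤ p := fun h5 => by
    rcases (by omega : p = 5 ∨ p = 6 ∨ 7 ≤ p) with h | h | h
    · exact Or.inl h
    · exfalso; rw [h] at hpp; exact absurd hpp (by norm_num)
    · exact Or.inr h
  have hp11 : 7 ≤ p → p = 7 ∨ 11 ≤ p := fun h7 => by
    rcases (by omega : p = 7 ∨ p = 8 ∨ p = 9 ∨ p = 10 ∨ 11 ≤ p) with h | h | h | h | h
    · exact Or.inl h
    · exfalso; rw [h] at hpp; exact absurd hpp (by norm_num)
    · exfalso; rw [h] at hpp; exact absurd hpp (by norm_num)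
    · exfalso; rw [h] at hpp; exact absurd hpp (by norm_num)
    · exact Or.inr h
  have goalA : ∀ E, E ∣ q ^ 2 - 1 → orderOf g ∣ E * p → Up p q (orderOf g) := fun E hE h => by
    iterate 8 right
    left
    rw [mul_comm] at h
    exact h.trans (Nat.mul_dvd_mul_left p hE)
  have goalB : p = 3 → ∀ E, E ∣ q ^ 2 - 1 → orderOf g ∣ E * p ^ 2 → Up p q (orderOf g) := fun h3 E hE h => by
    iterate 9 right
    left
    refine ⟨h3, Or.inr ?_⟩
    rw [h3, mul_comm] at h
    exact h.trans (Nat.mul_dvd_mul_left _ hE)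
  have goalC : orderOf g ∣ (q ^ 2 + 1) * p → Up p q (orderOf g) := fun h => by
    iterate 6 right
    left
    rw [mul_comm] at h
    exact h.trans (Nat.mul_dvd_mul_left p (Dvd.intro _ rfl))
  have goalD : p = 3 → orderOf g ∣ (q ^ 2 + 1) * p ^ 2 → Up p q (orderOf g) := fun h3 h => by
    iterate 9 right
    left
    refine ⟨h3, Or.inl ?_⟩
    rw [h3, mul_comm] at h
    exact h
  have d1m : q - 1 ∣ q ^ 2 - 1 := sub_one_dvd q 2
  have d1p : q + 1 ∣ q ^ 2 - 1 := add_one_dvd_sq q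
  rcases (by (clear * - hsum ht0; omega) : n₀ = 8 ∨ n₀ = 6 ∨ n₀ = 4 ∨ n₀ = 2 ∨ n₀ = 0) with hn | hn | hn | hn | hn
  · -- dimension 8
    obtain ⟨hel, hz⟩ := hzero (by (clear * - hsum ht1 hn; omega))
    have key : ∀ N, k ^ N = 1 → orderOf g ∣ N := fun N h => hz 0 N (by rw [pow_zero]; (clear * - hsum hn; omega)) (by simp) h
    have key1 : ∀ {M E : ℕ} (c : ℕ), Bd (rts (en k)) M E → M ≤ p ^ c → orderOf g ∣ E * p ^ c :=
      fun c hB hM => key _ (hex hB hM)
    rcases QEnumB.four (frob_inj F) hq0 he hInv (by rw [hcard, hn]) with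
      ⟨μ, hmin, hR⟩ | hB | hB | hB | hB | hB | hB | hB | hB
    · rcases QSemiB.semi h2 hQ₀ (m := 4) (by norm_num) (by simp [hn]) hel hmin hR with h | h
      · exact Or.inr (Or.inl (key _ (orderOf_dvd_iff_pow_eq_one.1 h)))
      · exact Or.inl (key _ (orderOf_dvd_iff_pow_eq_one.1 h))
    · have h := key1 0 hB (by simp)
      rw [pow_zero, mul_one] at h
      iterate 3 right
      exact Or.inl h
    · have h := key1 0 hB (by simp)
      rw [pow_zero, mul_one] at h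
      iterate 2 right
      exact Or.inl h
    · have h := key1 0 hB (by simp)
      rw [pow_zero, mul_one] at h
      right
      exact Or.inl h
    · have h := key1 1 hB (by rw [pow_one]; omega)
      rw [pow_one, mul_comm] at h
      iterate 7 right
      exact Or.inl h
    · have h := key1 1 hB (by rw [pow_one]; omega)
      rw [pow_one, mul_comm] at h
      iterate 6 right
      exact Or.inl h
    · have h := key1 1 hB (by rw [pow_one]; omega)
      rw [pow_one, mul_comm] at h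
      iterate 8 right
      exact Or.inl h
    · rcases hp5 with h5 | h5
      · exact goalB h5 _ d1m (key1 2 hB (by rw [h5]; norm_num))
      · have h := key1 1 hB (by rw [pow_one]; omega)
        rw [pow_one] at h
        exact goalA _ d1m h
    · rcases hp5 with h5 | h5
      · exact goalB h5 _ d1p (key1 2 hB (by rw [h5]; norm_num))
      · have h := key1 1 hB (by rw [pow_one]; omega)
        rw [pow_one] at h
        exact goalA _ d1p h
  · -- dimension 6
    have hcase : (n₁ = 0 ∧ n₂ = 3) ∨ (n₁ = 2 ∧ n₂ = 1) := by (clear * - hsum ht1 hn; omega)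
    have hn1 : n₁ ≤ p ^ 1 + 1 := by rw [pow_one]; (clear * - hp3 hsum hn; omega)
    have hn2 : n₂ ≤ p ^ 1 := by rw [pow_one]; (clear * - hp3 hsum hn; omega)
    rcases QEnumB.three (frob_inj F) hq0 he hInv (by rw [hcard, hn]) with ⟨μ, hmin, hR⟩ | hB | hB | hB
    · rcases hcase with ⟨h0, h3⟩ | ⟨h2', h1⟩
      · obtain ⟨hel, hz⟩ := hzero h0
        have key : ∀ N, orderOf k ∣ N → orderOf g ∣ p * N := fun N h =>
          hz 1 _ hn2 (by rw [pow_one]; exact Dvd.intro _ rfl) (orderOf_dvd_iff_pow_eq_one.1 (h.mul_left p))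
        rcases QSemiB.semi h2 hQ₀ (m := 3) (by norm_num) (by simp [hn]) hel hmin hR with h | h
        · iterate 5 right
          exact Or.inl (key _ h)
        · iterate 4 right
          exact Or.inl (key _ h)
      · have hcount : ∀ x, (rts (en k)).count x ≤ 1 := by
          intro x
          rw [hR]
          exact Multiset.nodup_iff_count_le_one.1 (orb _ μ 3).nodup x
        have hB : ∀ E, μ ^ E = 1 → Bd (rts (en k)) 1 E := fun E hE =>
          ⟨hcount, fun x hx => by rw [hR] at hx; exact ex_orb hx hE⟩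
        rcases hmin.pow hq0 with h | h
        · have h3 := hfin 0 (hB _ h) (by simp) (by
            have : q ^ 3 - 1 = 2 * (4 * e ^ 3 + 6 * e ^ 2 + 3 * e) := by (clear * - q3; omega)
            exact ⟨_, this⟩) (by simp; omega) (by simp; omega)
          rw [pow_zero, mul_one] at h3
          iterate 3 right
          exact Or.inl (h3.trans (Dvd.intro _ rfl))
        · have h3 := hfin 0 (hB _ h) (by simp) (by
            have : q ^ 3 + 1 = 2 * (4 * e ^ 3 + 6 * e ^ 2 + 3 * e + 1) := by (clear * - q3; omega)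
            exact ⟨_, this⟩) (by simp; omega) (by simp; omega)
          rw [pow_zero, mul_one] at h3
          iterate 2 right
          exact Or.inl (h3.trans (Dvd.intro _ rfl))
    · have h := hfin 1 hB (by rw [pow_one]; omega) (ev2p.mul_right _) hn1 hn2
      rw [pow_one, mul_comm] at h
      iterate 7 right
      exact Or.inl h
    · have h := hfin 1 hB (by rw [pow_one]; omega) (ev2p.mul_right _) hn1 hn2
      rw [pow_one, mul_comm] at h
      iterate 6 right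
      exact Or.inl h
    · have h := hfin 1 hB (by rw [pow_one]; omega) ev2m hn1 hn2
      rw [pow_one] at h
      exact goalA _ dvd_rfl h
  · -- dimension 4
    rcases two (frob_inj F) hq0 hInv (by rw [hcard, hn]) with hB | hB
    · rcases hp5 with h5 | h5
      · exact goalD h5 (hfin 2 hB (by rw [h5]; norm_num) ev2p (by rw [h5]; (clear * - hsum; omega)) (by rw [h5]; (clear * - hsum; omega)))
      · have h := hfin 1 hB (by rw [pow_one]; omega) ev2p (by rw [pow_one]; (clear * - hsum hn h5; omega)) (by rw [pow_one]; (clear * - hsum hn h5; omega))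
        rw [pow_one] at h
        exact goalC h
    · rcases hp5 with h5 | h5
      · exact goalB h5 _ dvd_rfl (hfin 2 hB (by rw [h5]; norm_num) ev2m (by rw [h5]; (clear * - hsum; omega)) (by rw [h5]; (clear * - hsum; omega)))
      · have h := hfin 1 hB (by rw [pow_one]; omega) ev2m (by rw [pow_one]; (clear * - hsum hn h5; omega)) (by rw [pow_one]; (clear * - hsum hn h5; omega))
        rw [pow_one] at h
        exact goalA _ dvd_rfl h
  · -- dimension 2
    rcases one (frob_inj F) hq0 hInv (by rw [hcard, hn]) with hB | hB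
    · rcases hp5 with h5 | h5
      · exact goalB h5 _ d1m (hfin 2 hB (by rw [h5]; norm_num) ev1m (by rw [h5]; (clear * - hsum; omega)) (by rw [h5]; (clear * - hsum; omega)))
      rcases hp7 h5 with h7 | h7
      · have h := hfin 2 hB (by rw [h7]; norm_num) ev1m (by rw [h7]; (clear * - hsum; omega)) (by rw [h7]; (clear * - hsum; omega))
        iterate 10 right
        left
        refine ⟨h7, Or.inr ?_⟩
        rw [h7, mul_comm] at h
        exact h
      · have h := hfin 1 hB (by rw [pow_one]; omega) ev1m (by rw [pow_one]; (clear * - hsum hn h7; omega)) (by rw [pow_one]; (clear * - hsum hn h7; omega))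
        rw [pow_one] at h
        exact goalA _ d1m h
    · rcases hp5 with h5 | h5
      · exact goalB h5 _ d1p (hfin 2 hB (by rw [h5]; norm_num) ev1p (by rw [h5]; (clear * - hsum; omega)) (by rw [h5]; (clear * - hsum; omega)))
      rcases hp7 h5 with h7 | h7
      · have h := hfin 2 hB (by rw [h7]; norm_num) ev1p (by rw [h7]; (clear * - hsum; omega)) (by rw [h7]; (clear * - hsum; omega))
        iterate 10 right
        left
        refine ⟨h7, Or.inl ?_⟩
        rw [h7, mul_comm] at h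
        exact h
      · have h := hfin 1 hB (by rw [pow_one]; omega) ev1p (by rw [pow_one]; (clear * - hsum hn h7; omega)) (by rw [pow_one]; (clear * - hsum hn h7; omega))
        rw [pow_one] at h
        exact goalA _ d1p h
  · -- dimension 0
    have hk : ∀ N, k ^ N = 1 := by
      intro N
      subst hn
      ext x i
      exact i.elim0
    have hfin0 : ∀ c, n₁ ≤ p ^ c + 1 → n₂ ≤ p ^ c → orderOf g ∣ 2 * p ^ c := fun c h3 h4 =>
      hall c _ h3 h4 dvd_rfl (hk _)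
    rcases hp5 with h5 | h5
    · exact goalB h5 _ ev2m (hfin0 2 (by rw [h5]; (clear * - hsum; omega)) (by rw [h5]; (clear * - hsum; omega)))
    rcases hp7 h5 with h7 | h7
    · have h := hfin0 2 (by rw [h7]; (clear * - hsum; omega)) (by rw [h7]; (clear * - hsum; omega))
      iterate 10 right
      left
      refine ⟨h7, Or.inl ?_⟩
      rw [h7, mul_comm] at h
      exact h.trans (Nat.mul_dvd_mul_left _ ev1p)
    rcases hp11 h7 with h8 | h8
    · have h := hfin0 2 (by rw [h8]; (clear * - hsum; omega)) (by rw [h8]; (clear * - hsum; omega))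
      iterate 11 right
      refine ⟨h8, ?_⟩
      rw [h8] at h
      exact h
    · have h := hfin0 1 (by rw [pow_one]; (clear * - hsum h8; omega)) (by rw [pow_one]; (clear * - hsum h8; omega))
      rw [pow_one] at h
      exact goalA _ ev2m h

end

section group

variable {F : Type*} [Field F] [Fintype F]

theorem two_ne (hF : Odd (Fintype.card F)) : (2 : F) ≠ 0 := by
  obtain ⟨p, hchar⟩ := CharP.exists F
  have hp0 : p.Prime := CharP.char_is_prime F p
  have hpf : Fact p.Prime := ⟨hp0⟩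
  intro h
  have h3 : p = 2 := by
    have h4 : ((2 : ℕ) : F) = 0 := by exact_mod_cast h
    exact (Nat.prime_dvd_prime_iff_eq hp0 Nat.prime_two).1 ((CharP.cast_eq_zero_iff F p 2).1 h4)
  subst h3
  obtain ⟨n, -, hn⟩ := FiniteField.card F 2
  rw [hn] at hF
  exact absurd hF (by simp only [Nat.odd_pow_iff n.ne_zero, _root_.Nat.not_odd_iff_even, _root_.even_two])

/-- **The element orders of `PΩ₉(q)`, `q` odd: the refined list.** -/
theorem up9' (hodd : Odd (Fintype.card F)) {p : ℕ} [hp : Fact p.Prime] [CharP F p]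
    (x : Cfsg.POmega F (Cfsg.quadFormOdd 4 F)) : Up p (Fintype.card F) (orderOf x) := by
  classical
  have h2 := two_ne hodd
  have h9 := Cfsg.Agent.LieClassical.OrthForms.nondeg_oddForm 4 F h2
  have key : ∀ (f : (Unit ⊕ (Fin 4 ⊕ Fin 4) → F) → F) (hf : f = ⇑(Cfsg.Agent.LieClassical.OrthForms.oddForm 4 F))
      (x : Cfsg.POmega F f), Up p (Fintype.card F) (orderOf x) := by
    intro f hf x
    subst hf
    obtain ⟨g, hg, ho⟩ := (Cfsg.Agent.H160.QFinal.range_POmega h2 h9 (by decide) (by decide) (orderOf x)).1 ⟨x, rfl⟩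
    rw [← ho]
    exact up (p := p) h2 h9 (by simp) hg
  exact key _ (Cfsg.Agent.LieClassical.OrthForms.coe_oddForm 4 F).symm x

/-- **The element orders of `PΩ₉(q)`, `q` odd.** -/
theorem up9 (hodd : Odd (Fintype.card F)) {p : ℕ} [hp : Fact p.Prime] [CharP F p]
    (x : Cfsg.POmega F (Cfsg.quadFormOdd 4 F)) : InL p (Fintype.card F) (orderOf x) :=
  (up9' hodd x).inL hodd

/-- **`PΩ₉(q)` has no elements of order `p (q³ ± 1)`.** -/
theorem no9 (hodd : Odd (Fintype.card F)) {p : ℕ} [hp : Fact p.Prime] [CharP F p] :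
    (¬ ∃ x : Cfsg.POmega F (Cfsg.quadFormOdd 4 F), orderOf x = p * (Fintype.card F ^ 3 + 1)) ∧
      ¬ ∃ x : Cfsg.POmega F (Cfsg.quadFormOdd 4 F), orderOf x = p * (Fintype.card F ^ 3 - 1) := by
  classical
  have hp2 : p ≠ 2 := by
    rintro rfl
    exact two_ne hodd (by exact_mod_cast CharP.cast_eq_zero F 2)
  constructor
  · rintro ⟨x, hx⟩
    have h := up9' (p := p) hodd x
    rw [hx] at h
    exact h.not_mul hodd hp.out hp2 (Cfsg.Agent.H160.QMain.p_dvd_card (F := F)) (Or.inl rfl)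
  · rintro ⟨x, hx⟩
    have h := up9' (p := p) hodd x
    rw [hx] at h
    exact h.not_mul hodd hp.out hp2 (Cfsg.Agent.H160.QMain.p_dvd_card (F := F)) (Or.inr rfl)

end group

end Cfsg.Agent.H104.UpNine
end
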