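import Cfsg.Agent.H901.SaxSpRow
import Cfsg.Agent.H909.Sp4GeomMain
import Cfsg.Agent.H97.Sp4Ext
import Cfsg.Agent.H374.SpFour
import Cfsg.Agent.Prune
set_option linter.all false
open scoped Cfsg.Agent.FastGrp

-- part: H901/SaxExt
section
/-!
# `Sp_2(q²).2 < Sp_4(q)`, `q` odd, has no element of order `4 p` modulo scalars (helper901, for S2498 and S2528)
-/

set_option autoImplicit false

namespace Cfsg.Agent.H901.SaxSp

open Module Cfsg Cfsg.Geo Cfsg.Agent.H884.El Matrix
open Cfsg.Agent.ClassicalGeometry.SympBasic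
open scoped MatrixGroups Matrix

universe u

variable {ι : Type} [Fintype ι] [DecidableEq ι] {F : Type u} [Field F]
  {K : Subalgebra F (Matrix ι ι F)}

theorem mulVec_eq_zero_of_field {s : ℕ} (hK : IsFieldSubalgebra s K) {a : Matrix ι ι F} (ha : a ∈ K) {w : ι → F}
    (hw : w ≠ 0) (h : a *ᵥ w = 0) : a = 0 := by
  by_contra h0
  obtain ⟨b, hb, hab⟩ := hK.inv a ha h0
  apply hw
  have h1 : (b * a) *ᵥ w = w := by rw [hK.comm b hb a ha, hab, Matrix.one_mulVec]
  rw [← h1, ← Matrix.mulVec_mulVec, h, Matrix.mulVec_zero]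

/-- the `K`-span of `v`, `n v`. -/
theorem span_two {K : Subalgebra F (Matrix ι ι F)} (hK : IsFieldSubalgebra 2 K) (h4 : Fintype.card ι = 4)
    {n : Matrix ι ι F} (hn : ∀ k ∈ K, n * k = k * n) {v : ι → F} (h1 : n *ᵥ v ≠ 0) (h2 : n *ᵥ (n *ᵥ v) = 0)
    (w : ι → F) : ∃ a ∈ K, ∃ b ∈ K, w = a *ᵥ v + b *ᵥ (n *ᵥ v) := by
  have hfd : Module.Finite F K := inferInstance
  let f : (K × K) →ₗ[F] (ι → F) :=
    { toFun := fun x => (x.1 : Matrix ι ι F) *ᵥ v + (x.2 : Matrix ι ι F) *ᵥ (n *ᵥ v)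
      map_add' := fun x y => by
        simp only [Prod.fst_add, Prod.snd_add, Subalgebra.coe_add, Matrix.add_mulVec]
        abel
      map_smul' := fun c x => by
        simp only [Prod.smul_fst, Prod.smul_snd, Subalgebra.coe_smul, Matrix.smul_mulVec, smul_add,
          RingHom.id_apply] }
  have hinj : Function.Injective f := by
    rw [← LinearMap.ker_eq_bot, LinearMap.ker_eq_bot']
    rintro ⟨a, b⟩ hab
    have e : (a : Matrix ι ι F) *ᵥ v + (b : Matrix ι ι F) *ᵥ (n *ᵥ v) = 0 := hab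
    have e1 : (a : Matrix ι ι F) *ᵥ (n *ᵥ v) = 0 := by
      have := congrArg (fun x => n *ᵥ x) e
      simp only [Matrix.mulVec_add, Matrix.mulVec_mulVec, Matrix.mulVec_zero] at this
      rw [hn _ a.2, ← mul_assoc, hn _ b.2, mul_assoc, ← Matrix.mulVec_mulVec _ (a : Matrix ι ι F),
        ← Matrix.mulVec_mulVec _ (b : Matrix ι ι F), ← Matrix.mulVec_mulVec _ n n, h2, Matrix.mulVec_zero,
        add_zero] at this
      exact this
    have ha := mulVec_eq_zero_of_field hK a.2 h1 e1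
    rw [ha, Matrix.zero_mulVec, zero_add] at e
    have hb := mulVec_eq_zero_of_field hK b.2 h1 e
    exact Prod.ext (Subtype.ext ha) (Subtype.ext hb)
  have hsurj : Function.Surjective f := by
    refine (LinearMap.injective_iff_surjective_of_finrank_eq_finrank (f := f) ?_).1 hinj
    rw [Module.finrank_prod, hK.finrank_eq, Module.finrank_fintype_fun_eq_card, h4]
  obtain ⟨⟨a, b⟩, hab⟩ := hsurj w
  exact ⟨a, a.2, b, b.2, hab.symm⟩

/-- an element commuting with `K` and `v`, `n v` is zero if ... -/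
theorem eq_zero_of_two {K : Subalgebra F (Matrix ι ι F)} (hK : IsFieldSubalgebra 2 K) (h4 : Fintype.card ι = 4)
    {n : Matrix ι ι F} (hn : ∀ k ∈ K, n * k = k * n) {v : ι → F} (h1 : n *ᵥ v ≠ 0) (h2 : n *ᵥ (n *ᵥ v) = 0)
    {D : Matrix ι ι F} (hD : ∀ k ∈ K, D * k = k * D) (e1 : D *ᵥ v = 0) (e2 : D *ᵥ (n *ᵥ v) = 0) : D = 0 := by
  apply Matrix.toLin'.injective
  rw [map_zero]
  refine LinearMap.ext fun w => ?_
  rw [Matrix.toLin'_apply, LinearMap.zero_apply]
  obtain ⟨a, ha, b, hb, rfl⟩ := span_two hK h4 hn h1 h2 w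
  rw [Matrix.mulVec_add, Matrix.mulVec_mulVec, Matrix.mulVec_mulVec, hD a ha, hD b hb, ← Matrix.mulVec_mulVec,
    ← Matrix.mulVec_mulVec, e1, e2, Matrix.mulVec_zero, Matrix.mulVec_zero, add_zero]

/-- **the `p`-th power of an element whose square is `ε + n`, `n ≠ 0` nilpotent, lies in `K`.** -/
theorem pow_mem_of {p : ℕ} [hp : Fact p.Prime] [CharP F p] {K : Subalgebra F (Matrix ι ι F)}
    (hK : IsFieldSubalgebra 2 K) (h4 : Fintype.card ι = 4) {Y : Matrix ι ι F} (hY : ∀ k ∈ K, Y * k = k * Y)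
    {ε : F} {n : Matrix ι ι F} (hn : n = Y ^ 2 - ε • 1) (hnp : n ^ p = 0) (hn0 : n ≠ 0) : Y ^ p ∈ K := by
  classical
  have hne : Nonempty ι := Fintype.card_pos_iff.1 (by omega)
  have hchar : CharP (Matrix ι ι F) p := inferInstance
  have hnK : ∀ k ∈ K, n * k = k * n := by
    intro k hk
    rw [hn, sub_mul, mul_sub, pow_two, mul_assoc, hY k hk, ← mul_assoc, hY k hk, mul_assoc, Matrix.smul_mul,
      Matrix.mul_smul, one_mul, mul_one]
  have hnY : n * Y = Y * n := by
    rw [hn, sub_mul, mul_sub, ← pow_succ, ← pow_succ', Matrix.smul_mul, Matrix.mul_smul, one_mul, mul_one]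
  -- `v` with `n v ≠ 0`, `n² v = 0`
  obtain ⟨v, h1, h2⟩ : ∃ v : ι → F, n *ᵥ v ≠ 0 ∧ n *ᵥ (n *ᵥ v) = 0 := by
    obtain ⟨u, hu⟩ : ∃ u : ι → F, n *ᵥ u ≠ 0 := by
      by_contra h
      push Not at h
      apply hn0
      apply Matrix.toLin'.injective
      rw [map_zero]
      exact LinearMap.ext fun w => by rw [Matrix.toLin'_apply]; exact h w
    have hex : ∃ j : ℕ, (n ^ j) *ᵥ u = 0 := ⟨p, by rw [hnp, Matrix.zero_mulVec]⟩
    set j := Nat.find hex with hj
    have hj0 : (n ^ j) *ᵥ u = 0 := Nat.find_spec hex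
    have hj2 : 2 ≤ j := by
      by_contra hcon
      push Not at hcon
      have : j = 0 ∨ j = 1 := by omega
      rcases this with h | h
      · rw [h, pow_zero, Matrix.one_mulVec] at hj0
        rw [hj0, Matrix.mulVec_zero] at hu
        exact hu rfl
      · rw [h, pow_one] at hj0
        exact hu hj0
    refine ⟨(n ^ (j - 2)) *ᵥ u, ?_, ?_⟩
    · rw [Matrix.mulVec_mulVec, ← pow_succ']
      exact Nat.find_min hex (by omega)
    · rw [Matrix.mulVec_mulVec, Matrix.mulVec_mulVec, ← pow_two, ← pow_add,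
        show 2 + (j - 2) = j by omega]
      exact hj0
  have hnn : n * n = 0 := by
    refine eq_zero_of_two hK h4 hnK h1 h2 (fun k hk => ?_) ?_ ?_
    · rw [mul_assoc, hnK k hk, ← mul_assoc, hnK k hk, mul_assoc]
    · rw [← Matrix.mulVec_mulVec, h2]
    · rw [← Matrix.mulVec_mulVec, h2, Matrix.mulVec_zero]
  obtain ⟨a, ha, b, hb, hab⟩ := span_two hK h4 hnK h1 h2 (Y *ᵥ v)
  have hYe : Y - (a + b * n) = 0 := by
    refine eq_zero_of_two hK h4 hnK h1 h2 (fun k hk => ?_) ?_ ?_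
    · rw [sub_mul, mul_sub, hY k hk, add_mul, mul_add, hK.comm a ha k hk, mul_assoc, hnK k hk, ← mul_assoc,
        hK.comm b hb k hk, mul_assoc]
    · rw [Matrix.sub_mulVec, Matrix.add_mulVec, ← Matrix.mulVec_mulVec _ b n, hab, sub_self]
    · have e1 : Y *ᵥ (n *ᵥ v) = n *ᵥ (Y *ᵥ v) := by
        rw [Matrix.mulVec_mulVec, ← hnY, Matrix.mulVec_mulVec]
      rw [Matrix.sub_mulVec, Matrix.add_mulVec, ← Matrix.mulVec_mulVec _ b n, h2, Matrix.mulVec_zero, add_zero, e1,
        hab, Matrix.mulVec_add, Matrix.mulVec_mulVec, Matrix.mulVec_mulVec, hnK a ha, hnK b hb,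
        ← Matrix.mulVec_mulVec, ← Matrix.mulVec_mulVec, h2, Matrix.mulVec_zero, add_zero, sub_self]
  rw [sub_eq_zero] at hYe
  have hcomm : Commute a (b * n) := by
    change a * (b * n) = b * n * a
    rw [mul_assoc, hnK a ha, ← mul_assoc, ← mul_assoc, hK.comm a ha b hb]
  have hcbn : Commute b n := (hnK b hb).symm
  rw [hYe, add_pow_char_of_commute _ hcomm, hcbn.mul_pow, hnp, mul_zero, add_zero]
  exact K.pow_mem ha p

/-- squares in the normaliser of a quadratic field commute with it. -/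
theorem sq_comm [Fintype F] [Nonempty ι] {K : Subalgebra F (Matrix ι ι F)} (hK : IsFieldSubalgebra 2 K)
    {g : GL ι F} (hgK : g ∈ subalgebraNormalizer K) :
    ∀ x ∈ K, ((g : Matrix ι ι F) ^ 2) * x = x * ((g : Matrix ι ι F) ^ 2) := by
  have hN : H912.NormAlg (subalgebraNormalizer K) K := fun _ hh a ha => (hh a).mp ha
  let _ : Field K := (H912.isField_of_fieldSub hK).toField
  have hfd : Module.Finite F K := inferInstance
  have hKfin : Finite K := Module.finite_of_finite F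
  have hgal : IsGalois F K := inferInstance
  let σ : K ≃ₐ[F] K := H912.conjSub hN ⟨g, hgK⟩
  have hσk : ∀ (k : ℕ) (x : K), (((σ ^ k) x : K) : Matrix ι ι F) =
      ((g ^ k : GL ι F) : Matrix ι ι F) * x * (((g ^ k)⁻¹ : GL ι F) : Matrix ι ι F) := by
    intro k
    induction k with
    | zero => intro x; simp
    | succ k ih =>
      intro x
      rw [pow_succ, AlgEquiv.mul_apply, ih, H912.conjSub_coe, pow_succ, _root_.mul_inv_rev, Units.val_mul,
        Units.val_mul]
      simp only [Matrix.mul_assoc]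
  have hσ2 : σ ^ 2 = 1 := by
    have h3 : Nat.card (K ≃ₐ[F] K) = 2 := by
      rw [IsGalois.card_aut_eq_finrank, hK.finrank_eq]
    rw [← h3]
    exact pow_card_eq_one'
  intro x hx
  have h1 := hσk 2 ⟨x, hx⟩
  rw [hσ2] at h1
  have h3 : x = ((g ^ 2 : GL ι F) : Matrix ι ι F) * x * (((g ^ 2)⁻¹ : GL ι F) : Matrix ι ι F) := h1
  rw [← Units.val_pow_eq_pow_val]
  conv_rhs => rw [h3]
  rw [Matrix.mul_assoc, ← Units.val_mul, inv_mul_cancel, Units.val_one, Matrix.mul_one]

/-- **`Sp_2(q²).2` has no element of order `4 p` modulo scalars.** -/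
theorem ext_scalar [Fintype F] {p : ℕ} [hp : Fact p.Prime] [CharP F p] (hp2 : p ≠ 2)
    {K : Subalgebra F (Matrix (Fin 2 ⊕ Fin 2) (Fin 2 ⊕ Fin 2) F)} (hK : IsFieldSubalgebra 2 K)
    (hsa : IsSelfAdjointFor (sympForm 2 F) K) {z : GL (Fin 2 ⊕ Fin 2) F} (hz : z ∈ spGL 2 F)
    (hzK : z ∈ subalgebraNormalizer K) {ε : F} (hε : ε ^ 2 = 1)
    (h : (z : Matrix (Fin 2 ⊕ Fin 2) (Fin 2 ⊕ Fin 2) F) ^ (4 * p) = ε • 1) :
    (∃ c : F, (z : Matrix (Fin 2 ⊕ Fin 2) (Fin 2 ⊕ Fin 2) F) ^ 4 = c • 1) ∨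
      ∃ c : F, (z : Matrix (Fin 2 ⊕ Fin 2) (Fin 2 ⊕ Fin 2) F) ^ (2 * p) = c • 1 := by
  have hodd := hp.out.odd_of_ne_two hp2
  set Z : Matrix (Fin 2 ⊕ Fin 2) (Fin 2 ⊕ Fin 2) F := (z : Matrix (Fin 2 ⊕ Fin 2) (Fin 2 ⊕ Fin 2) F) with hZ
  have hY := sq_comm hK hzK
  rw [← hZ] at hY
  by_cases hn0 : (Z ^ 2) ^ 2 - ε • (1 : Matrix (Fin 2 ⊕ Fin 2) (Fin 2 ⊕ Fin 2) F) = 0
  · left
    refine ⟨ε, ?_⟩
    rw [sub_eq_zero, ← pow_mul] at hn0
    exact hn0
  · right
    have hεp : ε ^ p = ε := by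
      obtain ⟨k, hk⟩ := hodd
      rw [hk, pow_succ, pow_mul, hε, one_pow, one_mul]
    have hchar : CharP (Matrix (Fin 2 ⊕ Fin 2) (Fin 2 ⊕ Fin 2) F) p := inferInstance
    have hnp : ((Z ^ 2) ^ 2 - ε • (1 : Matrix (Fin 2 ⊕ Fin 2) (Fin 2 ⊕ Fin 2) F)) ^ p = 0 := by
      have hc : Commute ((Z ^ 2) ^ 2) (ε • (1 : Matrix (Fin 2 ⊕ Fin 2) (Fin 2 ⊕ Fin 2) F)) := by
        change _ * _ = _ * _
        rw [Matrix.mul_smul, Matrix.smul_mul, mul_one, one_mul]
      rw [sub_pow_char_of_commute _ hc, smul_pow, one_pow, hεp, ← pow_mul, ← pow_mul,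
        show 2 * (2 * p) = 4 * p by ring, h, sub_self]
    have hmem := pow_mem_of (p := p) hK (by decide) hY rfl hnp hn0
    -- the element `c = Z ^ (2 p)` of `K` is an isometry
    set C : Matrix (Fin 2 ⊕ Fin 2) (Fin 2 ⊕ Fin 2) F := (Z ^ 2) ^ p with hC
    have hiso : ∀ u v, sympForm 2 F (C *ᵥ u) (C *ᵥ v) = sympForm 2 F u v := by
      intro u v
      have h1 := (spGL 2 F).pow_mem hz (2 * p) u v
      have h2 : glToMat (Fin 2 ⊕ Fin 2) F (z ^ (2 * p)) = C := by
        change ((z ^ (2 * p) : GL (Fin 2 ⊕ Fin 2) F) : Matrix (Fin 2 ⊕ Fin 2) (Fin 2 ⊕ Fin 2) F) = C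
        rw [Units.val_pow_eq_pow_val, hC, ← pow_mul]
      rw [h2] at h1
      exact h1
    have hCC : C * C = 1 := by
      apply Matrix.toLin'.injective
      refine LinearMap.ext fun v => ?_
      rw [Matrix.toLin'_apply, Matrix.toLin'_apply, Matrix.one_mulVec]
      rw [← sub_eq_zero]
      apply eq_zero_of_forall_sympForm_left
      intro u
      have h1 := hiso u v
      rw [hsa C hmem, Matrix.mulVec_mulVec] at h1
      have h2 : sympForm 2 F u ((C * C) *ᵥ v - v) = sympForm 2 F u ((C * C) *ᵥ v) - sympForm 2 F u v := by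
        have := map_sub (sympBilin 2 F u) ((C * C) *ᵥ v) v
        exact this
      rw [h2, h1, sub_self]
    have hprod : (C - 1) * (C + 1) = 0 := by
      rw [sub_mul, mul_add, mul_one, one_mul, hCC]
      abel
    rw [pow_mul, ← hC]
    by_cases h1 : C - 1 = 0
    · exact ⟨1, by rw [one_smul]; exact sub_eq_zero.1 h1⟩
    · obtain ⟨b, hb, hab⟩ := hK.inv (C - 1) (K.sub_mem hmem K.one_mem) h1
      have h2 : C + 1 = 0 := by
        have h3 : b * (C - 1) = 1 := by
          rw [hK.comm b hb (C - 1) (K.sub_mem hmem K.one_mem), hab]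
        have h4 := congrArg (fun x => b * x) hprod
        simp only [mul_zero] at h4
        rw [← mul_assoc, h3, one_mul] at h4
        exact h4
      exact ⟨-1, by rw [neg_smul, one_smul]; exact eq_neg_of_add_eq_zero_left h2⟩

end Cfsg.Agent.H901.SaxSp
end

-- part: H901/SaxSpFour
section
/-!
# `PSp_4(q)`, `q` odd: every maximal subgroup misses an element order (helper901, for S2498 and S2528)
-/

set_option autoImplicit false
set_option linter.unusedSectionVars false

namespace Cfsg.Agent.H901.SaxSp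

open Module Cfsg Cfsg.Geo Cfsg.Agent.H884.El
open Cfsg.Agent.H262.El (pre pre_le pre_ne scalars_le_pre mem_pre spToGL_injective two_le_of_symp)
open Cfsg.Agent.ClassicalGeometry.SympBasic Cfsg.Agent.H876 Cfsg.Agent.H931
open Cfsg.Agent.H938.Sax (PGap OrdGap OGMax)
open Cfsg.Agent.H909.Sp4List Cfsg.Agent.H909.Sp4Geom Cfsg.Agent.H909.Sp4Arith
open Cfsg.Agent.H374.SpFour Cfsg.Agent.H374.Quad
open scoped MatrixGroups Matrix

universe u

section gen

variable {F : Type u} [Field F] {m : ℕ}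

/-- preimages of maximal subgroups are maximal. -/
theorem isMaximalIn_pre {M : Subgroup (PSp m F)} (hM : IsCoatom M) : IsMaximalIn (spGL m F) (pre M) := by
  refine ⟨lt_of_le_of_ne (pre_le M) (pre_ne hM.1), fun N hMN hN => ?_⟩
  set N' : Subgroup (PSp m F) := (N.comap (spToGL m F)).map
    (QuotientGroup.mk' (Subgroup.center (Matrix.symplecticGroup (Fin m) F))) with hN'
  have hmem : ∀ A : Matrix.symplecticGroup (Fin m) F, (QuotientGroup.mk A : PSp m F) ∈ N' → spToGL m F A ∈ N := by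
    rintro A ⟨B, hB, hBA⟩
    have h1 : (QuotientGroup.mk B : PSp m F) = QuotientGroup.mk A := hBA
    have h2 : B⁻¹ * A ∈ Subgroup.center (Matrix.symplecticGroup (Fin m) F) := QuotientGroup.eq.1 h1
    have h3 : spToGL m F (B⁻¹ * A) ∈ pre M := by
      rw [mem_pre]
      have : (QuotientGroup.mk (B⁻¹ * A) : PSp m F) = 1 := (QuotientGroup.eq_one_iff _).2 h2
      rw [this]
      exact M.one_mem
    have h4 : spToGL m F A = spToGL m F B * spToGL m F (B⁻¹ * A) := by
      rw [← map_mul, mul_inv_cancel_left]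
    rw [h4]
    exact N.mul_mem hB (hMN h3)
  have hle : M ≤ N' := by
    intro x hx
    obtain ⟨A, rfl⟩ := QuotientGroup.mk_surjective x
    exact ⟨A, hMN (mem_pre.2 hx), rfl⟩
  by_cases h : N' = ⊤
  · right
    refine le_antisymm hN fun g hg => ?_
    obtain ⟨A, rfl⟩ := exists_spToGL hg
    exact hmem A (by rw [h]; trivial)
  · left
    have h1 : N' = M := by
      by_contra hne
      exact h (hM.2 _ (lt_of_le_of_ne hle (Ne.symm hne)))
    refine le_antisymm (fun g hg => ?_) hMN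
    obtain ⟨A, rfl⟩ := exists_spToGL (hN hg)
    rw [mem_pre, ← h1]
    exact ⟨A, hg, rfl⟩

end gen

variable {F : Type u} [Field F] [Fintype F]

/-- a prime missing in the preimage is missing. -/
theorem PGap.of_pre {m : ℕ} {R : Subgroup (PSp m F)} {r : ℕ} (hr : r.Prime) (h1 : r ∣ Nat.card (PSp m F))
    (h2 : ¬ r ∣ Nat.card (pre R)) : PGap (PSp m F) R :=
  ⟨r, hr, h1, fun h => h2 (h.trans (card_dvd_pre R))⟩

/-- an element order not dividing the order of the preimage is missing. -/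
theorem OrdGap.of_pre {m : ℕ} {R : Subgroup (PSp m F)} {N : ℕ} (h1 : ∃ x : PSp m F, orderOf x = N)
    (h2 : ¬ N ∣ Nat.card (pre R)) : OrdGap (PSp m F) R := by
  obtain ⟨x, hx⟩ := h1
  refine ⟨x, fun y hy hyx => h2 ?_⟩
  rw [← hx, ← hyx, ← Subgroup.orderOf_mk y hy]
  exact (orderOf_dvd_natCard _).trans (card_dvd_pre R)

theorem exists_four_mul {p : ℕ} [hp : Fact p.Prime] [CharP F p] (hodd : Odd (Fintype.card F)) :
    ∃ x : PSp 2 F, orderOf x = 4 * p := by
  obtain ⟨n, -, hn⟩ := FiniteField.card F p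
  have h3 : 3 ≤ p ^ (n : ℕ) := by
    rw [← hn]
    have h1 : 1 < Fintype.card F := Fintype.one_lt_card
    obtain ⟨k, hk⟩ := hodd
    omega
  rw [exists_iff (p := p) n.2.ne' hn h3, Om]
  have h4 : 4 ∣ p ^ (n : ℕ) - 1 ∨ 4 ∣ p ^ (n : ℕ) + 1 := by
    rw [← hn]
    obtain ⟨k, hk⟩ := hodd
    rcases Nat.even_or_odd k with ⟨j, hj⟩ | ⟨j, hj⟩
    · left; exact ⟨j, by omega⟩
    · right; exact ⟨j + 1, by omega⟩
  rcases h4 with h | h
  · left
    rw [mul_comm]
    exact Nat.mul_dvd_mul_left p h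
  · right; left
    rw [mul_comm]
    exact Nat.mul_dvd_mul_left p h

/-- the large primitive prime against products of `q`, `q² - 1`, `2`, `f`. -/
theorem PP.false_of_dvd {r q : ℕ} (hr : PP q 4 r) (hq : 1 ≤ q) {a b c d : ℕ} (h : r ∣ 2 * a * (q ^ b * (q ^ 2 - 1) ^ c) ^ d)
    (ha : ¬ r ∣ a) : False := by
  have hp := hr.prime
  have h2 : ¬ r ∣ 2 := fun h => by
    have h1 := Nat.le_of_dvd (by norm_num) h
    have := hr.lt (by norm_num)
    omega
  have hq' := hr.not_dvd (by norm_num)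
  have hq2 : ¬ r ∣ q ^ 2 - 1 := by
    rw [hr.dvd_iff hq]
    decide
  rcases (hp.dvd_mul).1 h with h | h
  · rcases (hp.dvd_mul).1 h with h | h
    · exact h2 h
    · exact ha h
  · have h := hp.dvd_of_dvd_pow h
    rcases (hp.dvd_mul).1 h with h | h
    · exact hq' (hp.dvd_of_dvd_pow h)
    · exact hq2 (hp.dvd_of_dvd_pow h)

/-- **`PSp_4(q)`, `q` odd**: every maximal subgroup misses an element order. -/
theorem ogMax_four (hodd : Odd (Fintype.card F)) : OGMax (PSp 2 F) := by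
  classical
  intro M hM
  by_contra hO
  have hP : ¬ PGap (PSp 2 F) M := fun h => hO h.ordGap
  have h2F : (2 : F) ≠ 0 := Cfsg.Agent.H909.Sp4Geom.two_ne hodd
  have hq := one_lt_q F
  have hc : Nat.card F = Fintype.card F := Nat.card_eq_fintype_card
  obtain ⟨p, hpchar⟩ : ∃ p, CharP F p := CharP.exists F
  have hp : p.Prime := CharP.char_is_prime F p
  have hpf : Fact p.Prime := ⟨hp⟩
  obtain ⟨n, hn1, hn⟩ : ∃ n : ℕ, 1 ≤ n ∧ Fintype.card F = p ^ n := by
    obtain ⟨n, -, hn⟩ := FiniteField.card F p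
    exact ⟨n, n.pos, hn⟩
  have hp2 : p ≠ 2 := by
    rintro rfl
    rw [hn] at hodd
    exact (Nat.not_even_iff_odd.2 hodd) (Even.pow_of_ne_zero even_two (by omega))
  have hp3 : 3 ≤ p := by have := hp.two_le; omega
  have hpn : Nat.card F = p ^ n := by rw [hc, hn]
  -- the primes
  obtain ⟨r₀, hr₀⟩ : ∃ r, PP p (n * 4) r := exists_pp hp.two_le (by omega) (by omega)
  have hr₀q : PP (Nat.card F) 4 r₀ := by rw [hpn]; exact hr₀.of_pow hn1
  have hlt := hr₀.lt (by omega)
  have h0 : r₀ ∣ Nat.card (pre M) :=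
    hits_of hP (e := 4) (i := 2) (by norm_num) le_rfl (by norm_num) (Or.inl (by norm_num)) _ hr₀q
  have hpd : p ∣ Nat.card (pre M) := by
    have h1 : p ∣ Nat.card (PSp 2 F) := by
      have h2 := card_psp (F := F) (m := 2) (by norm_num)
      have h3 : p ∣ Nat.gcd 2 (Fintype.card F - 1) * Nat.card (PSp 2 F) := by
        rw [h2, hn, ← pow_mul]
        exact (dvd_pow_self p (by positivity)).mul_right _
      rcases (Nat.Prime.dvd_mul hp).1 h3 with h | h
      · exfalso
        exact hp2 ((Nat.prime_dvd_prime_iff_eq hp Nat.prime_two).1 (h.trans (Nat.gcd_dvd_left _ _)))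
      · exact h
    have h2 : p ∣ Nat.card M := by
      by_contra h
      exact hP ⟨p, hp, h1, h⟩
    exact h2.trans (card_dvd_pre M)
  have hmax := isMaximalIn_pre hM
  rcases list hodd (res88 hodd) hmax with h | h | h | h | h | h | h | h
  · -- totally isotropic subspaces
    obtain ⟨y, hyH, hyr, hy1⟩ := exists_elt' hr₀q.prime h0
    obtain ⟨W, hW0, hW, hWe⟩ := h
    rw [hWe] at hyH
    exact Cfsg.Agent.H262.El.not_mem_subspaceStabilizer_of_irr
      (Cfsg.Agent.H262.El.irr_of_od (by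
        rw [← hc]; exact PP.od hr₀q (by norm_num)) hyr hy1)
      hW0 (Cfsg.Agent.H262.El.totallySingular_ne_top (by norm_num) hW) hyH.1
  · rw [card_of_T2 h2F h, a2] at h0
    exact PP.false_of_dvd (a := 1) (b := 1) (c := 1) (d := 2) hr₀q hq.le (by simpa using h0)
      (fun h => hr₀q.prime.one_lt.ne' (Nat.dvd_one.1 h))
  · rw [card_of_T3 h2F h, a3] at h0
    refine PP.false_of_dvd (a := 1) (b := 1) (c := 2) (d := 1) hr₀q hq.le (h0.trans ?_)
      (fun h => hr₀q.prime.one_lt.ne' (Nat.dvd_one.1 h))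
    have h1 : Nat.card F - 1 ∣ Nat.card F ^ 2 - 1 := by
      have := Nat.sub_dvd_pow_sub_pow (Nat.card F) 1 2
      rwa [one_pow] at this
    rw [mul_one, pow_one, pow_one, mul_assoc (Nat.card F), pow_two (Nat.card F ^ 2 - 1)]
    exact Nat.mul_dvd_mul_left _ (Nat.mul_dvd_mul_left _ (Nat.mul_dvd_mul_right h1 _))
  · -- `Sp_2(q²).2`
    obtain ⟨K, hK, hsa, -, hKe⟩ := h
    obtain ⟨x, hx⟩ := exists_four_mul (F := F) (p := p) hodd
    obtain ⟨y, hy, hyo⟩ := Cfsg.Agent.H938.Sax.exists_order_of_not_ordGap hO x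
    rw [hx] at hyo
    obtain ⟨A, hA, rfl⟩ := cl_surj y
    have hAp : spToGL 2 F ⟨A, hA⟩ ∈ pre M := mem_pre.2 hy
    have hAK : spToGL 2 F ⟨A, hA⟩ ∈ subalgebraNormalizer K := by
      rw [hKe] at hAp
      exact hAp.1
    have hpow : (cl A hA) ^ (4 * p) = 1 := by rw [← hyo]; exact pow_orderOf_eq_one _
    obtain ⟨ε, hε⟩ := cl_pow_eq_one.1 hpow
    have hε2 := sq_of_scalar hA hε
    have hp0 := hp.pos
    rcases ext_scalar (p := p) hp2 hK hsa (spToGL_mem _) hAK hε2 hε with ⟨c, hc'⟩ | ⟨c, hc'⟩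
    · have h1 : (cl A hA) ^ 4 = 1 := cl_pow_eq_one.2 ⟨c, hc'⟩
      have h2 := orderOf_dvd_of_pow_eq_one h1
      rw [hyo] at h2
      have := Nat.le_of_dvd (by norm_num) h2
      omega
    · have h1 : (cl A hA) ^ (2 * p) = 1 := cl_pow_eq_one.2 ⟨c, hc'⟩
      have h2 := orderOf_dvd_of_pow_eq_one h1
      rw [hyo] at h2
      have := Nat.le_of_dvd (by omega) h2
      omega
  · rw [card_of_T5 h2F h, a5] at h0
    refine PP.false_of_dvd (a := 1) (b := 1) (c := 2) (d := 1) hr₀q hq.le (h0.trans ?_)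
      (fun h => hr₀q.prime.one_lt.ne' (Nat.dvd_one.1 h))
    have h1 : Nat.card F + 1 ∣ Nat.card F ^ 2 - 1 := by
      refine ⟨Nat.card F - 1, ?_⟩
      have := Nat.sq_sub_sq (Nat.card F) 1
      rwa [one_pow] at this
    rw [mul_one, pow_one, pow_one, mul_assoc (Nat.card F), pow_two (Nat.card F ^ 2 - 1)]
    exact Nat.mul_dvd_mul_left _ (Nat.mul_dvd_mul_left _ (Nat.mul_dvd_mul_right h1 _))
  · -- subfields
    obtain ⟨F₀, s, P, ζ, hs, hcard, -, -, hMe⟩ := h
    exact kill_subfield (H := pre M) (hMe.le.trans inf_le_left) hs (by rw [hc]; exact hcard) hp hpn hr₀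
      (by decide) (by norm_num) h0
  · -- `2^{1+4}`
    have hprime := prime_of_T7 h
    have hF : Nat.card F = p := by
      have h1 : p ∣ Nat.card F := by rw [hpn]; exact dvd_pow_self p (by omega)
      exact ((Nat.prime_dvd_prime_iff_eq hp hprime).1 h1).symm
    have h7 : Nat.card (pre M) ∣ 3840 := Cfsg.Agent.H97.Sp4Ext.card_T7_dvd h
    have h5 : r₀ = 5 := five_of_3840 hr₀.prime (by omega) (h0.trans h7)
    by_cases hp5 : 5 ≤ p
    · have h6 : p = 5 := five_of_3840 hp hp5 (hpd.trans h7)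
      apply hr₀.not_dvd (by omega)
      rw [h5, h6]
    · have hpe : p = 3 := by
        have : p = 3 ∨ p = 4 := by omega
        rcases this with h | h
        · exact h
        · rw [h] at hp; exact absurd hp (by norm_num)
      subst hpe
      refine hO (OrdGap.of_pre (N := 9) (exists_nine hpchar) fun h9 => ?_)
      exact absurd (h9.trans h7) (by norm_num)
  · obtain ⟨P, p', hcore, hp', hchar, h | h | h⟩ := h
    · obtain ⟨⟨e⟩, h1, h5, -⟩ := h
      have hpp : p' = p := CharP.eq F hchar hpchar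
      subst hpp
      have h7 := Cfsg.Agent.H753.ResCard.card_A6 hmax.1.le hcore e
      have h8 : ∀ r : ℕ, r.Prime → 5 ≤ r → r ∣ 2880 → r = 5 := by
        intro r hr h5 h
        rw [show 2880 = 2 ^ 6 * 3 ^ 2 * 5 by norm_num] at h
        rcases (hr.dvd_mul).1 h with h | h
        · rcases (hr.dvd_mul).1 h with h | h
          · have := Nat.le_of_dvd (by norm_num) (hr.dvd_of_dvd_pow h)
            omega
          · have := Nat.le_of_dvd (by norm_num) (hr.dvd_of_dvd_pow h)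
            omega
        · have := Nat.le_of_dvd (by norm_num) h
          omega
      have h9 := h8 _ hr₀.prime (by omega) (h0.trans h7)
      have h10 := h8 _ hp h5 (hpd.trans h7)
      apply hr₀.not_dvd (by omega)
      rw [h9, h10]
    · obtain ⟨⟨e⟩, h1⟩ := h
      have h7 := Cfsg.Agent.H753.ResCard.card_A7 hmax.1.le hcore e
      have hp7 : p = 7 := by
        have h2 : p ∣ 7 := by rw [← h1, hn]; exact dvd_pow_self p (by omega)
        exact (Nat.prime_dvd_prime_iff_eq hp (by norm_num)).1 h2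
      refine hO (OrdGap.of_pre (N := 25) ?_ fun h25 => ?_)
      · have h3 : 3 ≤ p ^ n := by rw [← hn, h1]; norm_num
        refine (@exists_iff F _ _ p n hpf hpchar (by omega) hn h3 25).2 ?_
        rw [Om, ← hn, h1]
        norm_num
      · exact absurd (h25.trans h7) (by norm_num)
    · obtain ⟨⟨e⟩, h5, h7⟩ := h
      have h8 := Cfsg.Agent.H753.ResCard.card_L2 hp hn hodd (by omega) hmax.1.le hcore e
      refine PP.false_of_dvd (a := n) (b := 1) (c := 1) (d := 1) hr₀q hq.le ?_ ?_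
      · simpa using h0.trans h8
      · intro h
        have := Nat.le_of_dvd hn1 h
        omega

end Cfsg.Agent.H901.SaxSp
end

private theorem dce_3d7f9b987e7b : _root_.True := by
  try have : _root_.True := by simp only [_root_.Cfsg.Agent.H374.Quad.Om.eq_1]
  exact _root_.True.intro
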